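import Groth.Agent.Divisors.K722.GrExt

/-!
# The saturated homogeneous ideal of a compatible family of ideals of the `A_(f)`
-/

set_option autoImplicit false

open HomogeneousLocalization

namespace K722.GrFam

open K722.GrExt

variable {A σ : Type*} [CommRing A] [SetLike σ A] [AddSubgroupClass σ A] (𝒜 : ℕ → σ) [GradedRing 𝒜]

/-- A compatible family of ideals of the rings `A_(f)`. -/
structure Fam where
  /-- the ideal of `A_(f)` -/
  J : ∀ (d : ℕ) (f : A), 0 < d → f ∈ 𝒜 d → Ideal (Away 𝒜 f)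
  compat : ∀ (d : ℕ) (f : A) (hd : 0 < d) (hf : f ∈ 𝒜 d) (e : ℕ) (g : A) (he : 0 < e) (hg : g ∈ 𝒜 e)
    (x : A) (hx : x = f * g) (hx' : x = g * f),
    (J d f hd hf).map (awayMap 𝒜 hg hx) = (J e g he hg).map (awayMap 𝒜 hf hx')

/-- A finite cover of `Proj` by basic opens. -/
structure Cov (ι : Type*) where
  D : ι → ℕ
  F : ι → A
  hD : ∀ i, 0 < D i
  hF : ∀ i, F i ∈ 𝒜 (D i)
  cov : ∀ (e : ℕ) (g : A), 0 < e → g ∈ 𝒜 e → g ∈ (Ideal.span (Set.range F)).radical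

variable {𝒜} (Φ : Fam 𝒜)

namespace Fam

/-- The saturated ideal. -/
def I : Ideal A where
  carrier := {a | ∀ (d : ℕ) (f : A) (hd : 0 < d) (hf : f ∈ 𝒜 d), ∃ n, f ^ n * a ∈ num hf (Φ.J d f hd hf)}
  zero_mem' := fun d f hd hf => ⟨0, by simp⟩
  add_mem' := fun {a b} ha hb d f hd hf => by
    obtain ⟨n, hn⟩ := ha d f hd hf
    obtain ⟨m, hm⟩ := hb d f hd hf
    refine ⟨n + m, ?_⟩
    have h1 : f ^ (n + m) * (a + b) = f ^ m * (f ^ n * a) + f ^ n * (f ^ m * b) := by ring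
    rw [h1]
    exact add_mem (Ideal.mul_mem_left _ _ hn) (Ideal.mul_mem_left _ _ hm)
  smul_mem' := fun c a ha d f hd hf => by
    obtain ⟨n, hn⟩ := ha d f hd hf
    refine ⟨n, ?_⟩
    have h1 : f ^ n * (c • a) = c * (f ^ n * a) := by rw [smul_eq_mul]; ring
    rw [h1]
    exact Ideal.mul_mem_left _ _ hn

theorem mem_I {a : A} : a ∈ Φ.I ↔ ∀ (d : ℕ) (f : A) (hd : 0 < d) (hf : f ∈ 𝒜 d),
    ∃ n, f ^ n * a ∈ num hf (Φ.J d f hd hf) := Iff.rfl

theorem isHomogeneous_I : Φ.I.IsHomogeneous 𝒜 := fun m _ ha d f hd hf =>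
  decompose_mem hf (Φ.J d f hd hf) (ha d f hd hf) m

/-- It is enough to test on a cover. -/
theorem mem_I_of_cov {ι : Type*} [Finite ι] (C : Cov 𝒜 ι) {a : A}
    (h : ∀ i, ∃ n, C.F i ^ n * a ∈ num (C.hF i) (Φ.J (C.D i) (C.F i) (C.hD i) (C.hF i))) : a ∈ Φ.I := by
  classical
  cases nonempty_fintype ι
  intro e g he hg
  have h1 : ∀ i, ∃ m, ∃ n, g ^ n * (C.F i ^ m * a) ∈ num hg (Φ.J e g he hg) := fun i =>
    mem_sat_of_mem_sat hg (C.hF i) rfl (mul_comm _ _) _ _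
      (Φ.compat e g he hg (C.D i) (C.F i) (C.hD i) (C.hF i) _ rfl (mul_comm _ _)) (h i)
  choose m n hmn using h1
  obtain ⟨N, hN⟩ := C.cov e g he hg
  let M := Finset.univ.sup m
  have h2 : g ∈ (Ideal.span (Set.range fun i => C.F i ^ M)).radical := by
    have h3 : (Ideal.span (Set.range C.F)) ≤ (Ideal.span (Set.range fun i => C.F i ^ M)).radical := by
      rw [Ideal.span_le]
      rintro _ ⟨i, rfl⟩
      exact ⟨M, Ideal.subset_span ⟨i, rfl⟩⟩
    have h4 := Ideal.radical_mono h3 (⟨N, hN⟩ : g ∈ (Ideal.span (Set.range C.F)).radical)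
    rwa [Ideal.radical_idem] at h4
  obtain ⟨N', hN'⟩ := h2
  let K := Finset.univ.sup n
  refine ⟨K + N', ?_⟩
  have h5 : ∀ y ∈ Ideal.span (Set.range fun i => C.F i ^ M), g ^ K * (y * a) ∈ num hg (Φ.J e g he hg) := by
    intro y hy
    induction hy using Submodule.span_induction with
    | mem y hy =>
      obtain ⟨i, rfl⟩ := hy
      obtain ⟨M', hM'⟩ := Nat.exists_eq_add_of_le' (Finset.le_sup (f := m) (Finset.mem_univ i))
      obtain ⟨K', hK'⟩ := Nat.exists_eq_add_of_le' (Finset.le_sup (f := n) (Finset.mem_univ i))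
      have h6 : g ^ K * (C.F i ^ M * a) = (g ^ K' * C.F i ^ M') * (g ^ n i * (C.F i ^ m i * a)) := by
        change g ^ (Finset.univ.sup n) * (C.F i ^ (Finset.univ.sup m) * a) = _
        rw [hM', hK']
        ring
      rw [h6]
      exact Ideal.mul_mem_left _ _ (hmn i)
    | zero => simp
    | add x y _ _ hx hy =>
      rw [add_mul, mul_add]
      exact add_mem hx hy
    | smul c x _ hx =>
      have h6 : g ^ K * (c • x * a) = c * (g ^ K * (x * a)) := by rw [smul_eq_mul]; ring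
      rw [h6]
      exact Ideal.mul_mem_left _ _ hx
  have h6 := h5 _ hN'
  rwa [← mul_assoc, ← pow_add] at h6

theorem exists_pow_mul_mem_I {ι : Type*} [Finite ι] (C : Cov 𝒜 ι) {d : ℕ} {f : A} (hd : 0 < d) (hf : f ∈ 𝒜 d)
    {a : A} (ha : ∃ n, f ^ n * a ∈ num hf (Φ.J d f hd hf)) : ∃ n, f ^ n * a ∈ Φ.I := by
  classical
  cases nonempty_fintype ι
  have h1 : ∀ i, ∃ m, ∃ n, C.F i ^ n * (f ^ m * a) ∈ num (C.hF i) (Φ.J (C.D i) (C.F i) (C.hD i) (C.hF i)) := fun i =>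
    mem_sat_of_mem_sat (C.hF i) hf rfl (mul_comm _ _) _ _
      (Φ.compat (C.D i) (C.F i) (C.hD i) (C.hF i) d f hd hf _ rfl (mul_comm _ _)) ha
  choose m n hmn using h1
  refine ⟨Finset.univ.sup m, Φ.mem_I_of_cov C fun i => ⟨n i, ?_⟩⟩
  obtain ⟨M', hM'⟩ := Nat.exists_eq_add_of_le' (Finset.le_sup (f := m) (Finset.mem_univ i))
  rw [hM']
  have h6 : C.F i ^ n i * (f ^ (M' + m i) * a) = f ^ M' * (C.F i ^ n i * (f ^ m i * a)) := by ring
  rw [h6]
  exact Ideal.mul_mem_left _ _ (hmn i)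

/-- The ideal `I_(f)` is `J_f`. -/
theorem mk_mem_iff_exists {ι : Type*} [Finite ι] (C : Cov 𝒜 ι) {d : ℕ} {f : A} (hd : 0 < d) (hf : f ∈ 𝒜 d)
    {k : ℕ} {c : A} (hc : c ∈ 𝒜 (k • d)) :
    Away.mk 𝒜 hf k c hc ∈ Φ.J d f hd hf ↔ ∃ n, f ^ n * c ∈ Φ.I := by
  rw [mk_mem_iff hf _ hd hc]
  constructor
  · exact Φ.exists_pow_mul_mem_I C hd hf
  · rintro ⟨n, hn⟩
    obtain ⟨m, hm⟩ := hn d f hd hf
    exact ⟨m + n, by rwa [pow_add, mul_assoc]⟩

section localization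

variable {B τ : Type*} [CommRing B] [SetLike τ B] [AddSubgroupClass τ B] {ℬ : ℕ → τ} [GradedRing ℬ]
  (ρ : 𝒜 →+*ᵍ ℬ) (Ψ : Fam ℬ)

/-- Compatibility with localization. -/
theorem I_map {ι : Type*} [Finite ι] (C : Cov 𝒜 ι)
    (hcov : ∀ (e : ℕ) (g : B), 0 < e → g ∈ ℬ e → g ∈ (Ideal.span (Set.range fun i => ρ (C.F i))).radical)
    (hJ : ∀ (d : ℕ) (f : A) (hd : 0 < d) (hf : f ∈ 𝒜 d),
      (Φ.J d f hd hf).map (Away.map ρ f) = Ψ.J d (ρ f) hd (ρ.map_mem hf)) (r : A)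
    (hloc : letI := ρ.toRingHom.toAlgebra; IsLocalization.Away r B) : Φ.I.map ρ.toRingHom = Ψ.I := by
  classical
  cases nonempty_fintype ι
  let C' : Cov ℬ ι := ⟨C.D, fun i => ρ (C.F i), C.hD, fun i => ρ.map_mem (C.hF i), hcov⟩
  apply le_antisymm
  · rw [Ideal.map_le_iff_le_comap]
    intro a ha
    refine Ψ.mem_I_of_cov C' fun i => ?_
    have h1 := sat_map ρ (C.hF i) (Φ.J (C.D i) (C.F i) (C.hD i) (C.hF i)) (ρ.map_mem (C.hF i)) (ha _ _ (C.hD i) (C.hF i))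
    rw [hJ] at h1
    exact h1
  · intro b hb
    let _ := ρ.toRingHom.toAlgebra
    obtain ⟨⟨a, s⟩, hs⟩ := IsLocalization.surj (M := Submonoid.powers r) b
    change b * ρ (s : A) = ρ a at hs
    have hu : IsUnit (ρ (s : A)) := IsLocalization.map_units (M := Submonoid.powers r) B s
    have hρa : ρ a ∈ Ψ.I := by
      rw [← hs]
      exact Ideal.mul_mem_right _ _ hb
    have h1 : ∀ i, ∃ m n, C.F i ^ n * (r ^ m * a) ∈ num (C.hF i) (Φ.J (C.D i) (C.F i) (C.hD i) (C.hF i)) := by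
      intro i
      refine exists_of_sat_map ρ (C.hF i) _ (ρ.map_mem (C.hF i)) r hloc ?_
      rw [hJ]
      exact hρa _ _ (C.hD i) (ρ.map_mem (C.hF i))
    choose m n hmn using h1
    have h2 : r ^ (Finset.univ.sup m) * a ∈ Φ.I := by
      refine Φ.mem_I_of_cov C fun i => ⟨n i, ?_⟩
      obtain ⟨M', hM'⟩ := Nat.exists_eq_add_of_le' (Finset.le_sup (f := m) (Finset.mem_univ i))
      rw [hM']
      have h6 : C.F i ^ n i * (r ^ (M' + m i) * a) = r ^ M' * (C.F i ^ n i * (r ^ m i * a)) := by ring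
      rw [h6]
      exact Ideal.mul_mem_left _ _ (hmn i)
    have h3 := Ideal.mem_map_of_mem ρ.toRingHom h2
    have hr : IsUnit (ρ r) := by
      have := IsLocalization.map_units (M := Submonoid.powers r) B ⟨r, 1, pow_one r⟩
      exact this
    have h4 : b = (↑(hu.unit⁻¹) * ↑((hr.pow (Finset.univ.sup m)).unit⁻¹)) * ρ.toRingHom (r ^ (Finset.univ.sup m) * a) := by
      have e1 : ρ.toRingHom (r ^ (Finset.univ.sup m) * a) = (ρ r) ^ (Finset.univ.sup m) * (b * ρ (s : A)) := by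
        rw [map_mul, map_pow, hs]; rfl
      rw [e1]
      have e2 : (↑((hr.pow (Finset.univ.sup m)).unit⁻¹) : B) * (ρ r) ^ (Finset.univ.sup m) = 1 :=
        (hr.pow (Finset.univ.sup m)).val_inv_mul
      have e3 : (↑(hu.unit⁻¹) : B) * ρ (s : A) = 1 := hu.val_inv_mul
      calc b = (↑(hu.unit⁻¹) * ρ (s : A)) * ((↑((hr.pow (Finset.univ.sup m)).unit⁻¹) * (ρ r) ^ (Finset.univ.sup m)) * b) := by
            rw [e2, e3]; ring
        _ = _ := by ring
    rw [h4]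
    exact Ideal.mul_mem_left _ _ h3

end localization

theorem mk_cast {f : A} {d : ℕ} (hf : f ∈ 𝒜 d) {a b : ℕ} (hab : a = b) {z : A} (ha : z ∈ 𝒜 (a • d))
    (hb : z ∈ 𝒜 (b • d)) : Away.mk 𝒜 hf a z ha = Away.mk 𝒜 hf b z hb := by
  subst hab; rfl

/-- Fractions with numerator in `H`. -/
theorem exists_mk_of_mem_span {f : A} {d : ℕ} (hf : f ∈ 𝒜 d) (H : Ideal A) (G : Set (Away 𝒜 f))
    (hG : ∀ y ∈ G, ∃ (l : ℕ) (c : A) (hc : c ∈ 𝒜 (l • d)), c ∈ H ∧ y = Away.mk 𝒜 hf l c hc)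
    {y : Away 𝒜 f} (hy : y ∈ Ideal.span G) :
    ∃ (l : ℕ) (c : A) (hc : c ∈ 𝒜 (l • d)), c ∈ H ∧ y = Away.mk 𝒜 hf l c hc := by
  induction hy using Submodule.span_induction with
  | mem y hy => exact hG y hy
  | zero => exact ⟨0, 0, zero_mem _, zero_mem _, (mk_eq_zero_of hf _ rfl).symm⟩
  | add x y _ _ hx hy =>
    obtain ⟨l, c, hc, hcH, rfl⟩ := hx
    obtain ⟨l', c', hc', hcH', rfl⟩ := hy
    have h1 : f ^ l' * c ∈ 𝒜 ((l' + l) • d) := by
      rw [add_smul]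
      exact SetLike.mul_mem_graded (SetLike.pow_mem_graded l' hf) hc
    have h2' : f ^ l * c' ∈ 𝒜 ((l + l') • d) := by
      rw [add_smul]
      exact SetLike.mul_mem_graded (SetLike.pow_mem_graded l hf) hc'
    have h2 : f ^ l * c' ∈ 𝒜 ((l' + l) • d) := by rwa [add_comm l' l]
    refine ⟨l' + l, f ^ l' * c + f ^ l * c', add_mem h1 h2,
      add_mem (Ideal.mul_mem_left _ _ hcH) (Ideal.mul_mem_left _ _ hcH'), ?_⟩
    rw [mk_add hf _ _ h1 h2, mk_pow_mul hf l' l c hc h1]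
    congr 1
    rw [← mk_pow_mul hf l l' c' hc' h2']
    exact mk_cast hf (add_comm _ _) _ _
  | smul a x _ hx =>
    obtain ⟨l, c, hc, hcH, rfl⟩ := hx
    obtain ⟨k, b, hb, rfl⟩ := a.mk_surjective _ hf
    have h1 : b * c ∈ 𝒜 ((k + l) • d) := by
      rw [add_smul]
      exact SetLike.mul_mem_graded hb hc
    exact ⟨k + l, b * c, h1, Ideal.mul_mem_left _ _ hcH, (mk_mul hf _ _ hb hc h1).symm⟩

/-- If every `J_f` on a cover by elements of the same degree is finitely generated, there are finitely many elements of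
`I` of one (large) degree generating all of them. -/
theorem exists_finset {ι : Type*} [Finite ι] (C : Cov 𝒜 ι) {e : ℕ} (he : ∀ i, C.D i = e)
    (hfg : ∀ i, (Φ.J (C.D i) (C.F i) (C.hD i) (C.hF i)).FG) :
    ∃ k₀ : ℕ, ∀ k, k₀ ≤ k → ∃ T : Finset A, (T : Set A) ⊆ Φ.I ∧ (∀ c ∈ T, c ∈ 𝒜 (k • e)) ∧
      ∀ i, ∀ (H : Ideal A), (T : Set A) ⊆ H → ∀ y ∈ Φ.J (C.D i) (C.F i) (C.hD i) (C.hF i),
        ∃ (l : ℕ) (c : A) (hc : c ∈ 𝒜 (l • C.D i)), c ∈ H ∧ y = Away.mk 𝒜 (C.hF i) l c hc := by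
  classical
  cases nonempty_fintype ι
  choose G hG using hfg
  have h1 : ∀ (i : ι) (y : Away 𝒜 (C.F i)), y ∈ G i → ∃ K : ℕ, ∀ k, K ≤ k →
      ∃ (c : A) (hc : c ∈ 𝒜 (k • C.D i)), c ∈ Φ.I ∧ y = Away.mk 𝒜 (C.hF i) k c hc := by
    intro i y hy
    have hyJ : y ∈ Φ.J (C.D i) (C.F i) (C.hD i) (C.hF i) := by
      rw [← hG i]; exact Ideal.subset_span hy
    obtain ⟨k₁, c, hc, rfl⟩ := y.mk_surjective _ (C.hF i)
    obtain ⟨n, hn⟩ := (Φ.mk_mem_iff_exists C (C.hD i) (C.hF i) hc).1 hyJ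
    refine ⟨n + k₁, fun k hk => ?_⟩
    obtain ⟨m, rfl⟩ := Nat.exists_eq_add_of_le' hk
    have h2 : C.F i ^ (m + n) * c ∈ 𝒜 ((m + n + k₁) • C.D i) := by
      rw [add_smul _ k₁]
      exact SetLike.mul_mem_graded (SetLike.pow_mem_graded _ (C.hF i)) hc
    refine ⟨C.F i ^ (m + n) * c, by rw [← add_assoc]; exact h2, ?_, ?_⟩
    · rw [pow_add, mul_assoc]
      exact Ideal.mul_mem_left _ _ hn
    · exact (mk_pow_mul (C.hF i) (m + n) k₁ c hc h2).symm.trans (mk_cast _ (add_assoc _ _ _) _ _)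
  choose! K hK using h1
  refine ⟨Finset.univ.sup fun i => (G i).sup (K i), fun k hk => ?_⟩
  have h2 : ∀ (i : ι) (y : Away 𝒜 (C.F i)), y ∈ G i →
      ∃ (c : A) (hc : c ∈ 𝒜 (k • C.D i)), c ∈ Φ.I ∧ y = Away.mk 𝒜 (C.hF i) k c hc := by
    intro i y hy
    refine hK i y hy k (le_trans ?_ hk)
    exact (Finset.le_sup (f := K i) hy).trans (Finset.le_sup (f := fun i => (G i).sup (K i)) (Finset.mem_univ i))
  choose c hc hcI hyc using h2
  refine ⟨Finset.univ.biUnion fun i => (G i).attach.image fun y => c i y.1 y.2, ?_, ?_, ?_⟩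
  · intro z hz
    simp only [Finset.coe_biUnion, Set.mem_iUnion, Finset.coe_image, Set.mem_image] at hz
    obtain ⟨i, -, y, -, rfl⟩ := hz
    exact hcI i y.1 y.2
  · intro z hz
    simp only [Finset.mem_biUnion, Finset.mem_image] at hz
    obtain ⟨i, -, y, -, rfl⟩ := hz
    have := hc i y.1 y.2
    rwa [he i] at this
  · intro i H hH y hy
    rw [← hG i] at hy
    refine exists_mk_of_mem_span (C.hF i) H _ ?_ hy
    intro y hy
    refine ⟨k, c i y hy, hc i y hy, hH ?_, hyc i y hy⟩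
    simp only [Finset.coe_biUnion, Set.mem_iUnion, Finset.coe_image, Set.mem_image]
    exact ⟨i, Finset.mem_univ i, ⟨y, hy⟩, Finset.mem_coe.2 (Finset.mem_attach _ _), rfl⟩

end Fam

end K722.GrFam
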