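import Groth.Agent.Divis.IdealComap
import Mathlib.AlgebraicGeometry.Morphisms.FinitePresentation

/-!
# The ideal of a closed subscheme on an affine chart

`jof I t`: the ideal of `R` cut out by the ideal sheaf `I` through `t : Spec R ⟶ P`.
-/

set_option autoImplicit false
universe u

open CategoryTheory CategoryTheory.Limits AlgebraicGeometry TopologicalSpace Opposite

noncomputable section

namespace K722.JSpec

open Groth.Agent.Divis.IdealComap

variable {P Q : Scheme.{u}} (I : P.IdealSheafData)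

/-- The ideal of `R` cut out by `I` through `t : Spec R ⟶ P`. -/
def jof {R : CommRingCat.{u}} (t : Spec R ⟶ P) : Ideal R :=
  ((I.comap t).ideal ⟨⊤, isAffineOpen_top _⟩).map (Scheme.ΓSpecIso R).hom.hom

theorem jof_comp {R R' : CommRingCat.{u}} (g : R ⟶ R') (t : Spec R ⟶ P) :
    jof I (Spec.map g ≫ t) = (jof I t).map g.hom := by
  rw [jof, jof, Scheme.IdealSheafData.comap_comp, ideal_comap_top, Ideal.map_map, Ideal.map_map,
    ← CommRingCat.hom_comp, ← CommRingCat.hom_comp, Scheme.ΓSpecIso_naturality]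

theorem jof_congr {R : CommRingCat.{u}} {t t' : Spec R ⟶ P} (h : t = t') : jof I t = jof I t' := by
  rw [h]

theorem jof_ker (h : Q ⟶ P) [IsClosedImmersion h] {R R' : CommRingCat.{u}} (g : R ⟶ R') (t : Spec R ⟶ P)
    (t' : Spec R' ⟶ Q) (sq : IsPullback t' (Spec.map g) h t) : jof h.ker t = RingHom.ker g.hom := by
  have h1 : h.ker.comap t = (Spec.map g).ker := by
    rw [← Scheme.IdealSheafData.ker_fst_of_isClosedImmersion,
      ← Scheme.Hom.ker_comp_of_isIso (sq.flip.isoPullback.hom), IsPullback.isoPullback_hom_fst]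
  have h3 : (Scheme.ΓSpecIso R).inv ≫ (Spec.map g).appTop = g ≫ (Scheme.ΓSpecIso R').inv :=
    (Scheme.ΓSpecIso_inv_naturality g).symm
  rw [jof, h1, Scheme.Hom.ker_apply, map_eq_comap_of_iso]
  ext r
  change (Spec.map g).appTop.hom ((Scheme.ΓSpecIso R).inv.hom r) = 0 ↔ g.hom r = 0
  have h4 : (Spec.map g).appTop.hom ((Scheme.ΓSpecIso R).inv.hom r) = (Scheme.ΓSpecIso R').inv.hom (g.hom r) :=
    congrArg (fun z => z.hom r) h3
  rw [h4]
  exact map_eq_zero_iff _ ((ConcreteCategory.bijective_of_isIso (Scheme.ΓSpecIso R').inv).1)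

theorem isOpenImmersion_eq {I J : P.IdealSheafData} {R : CommRingCat.{u}} (t : Spec R ⟶ P) [IsOpenImmersion t]
    (h : jof I t = jof J t) :
    I.ideal ⟨t.opensRange, isAffineOpen_opensRange t⟩ = J.ideal ⟨t.opensRange, isAffineOpen_opensRange t⟩ := by
  have h1 := map_injective_of_isIso _ h
  have e : (⊤ : (Spec R).Opens) ≤ t ⁻¹ᵁ t.opensRange := by
    rw [Scheme.Hom.preimage_opensRange]
  rw [ideal_comap_of_isOpenImmersion I t ⟨t.opensRange, isAffineOpen_opensRange t⟩ ⟨⊤, isAffineOpen_top _⟩ e,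
    ideal_comap_of_isOpenImmersion J t ⟨t.opensRange, isAffineOpen_opensRange t⟩ ⟨⊤, isAffineOpen_top _⟩ e] at h1
  have : IsIso (t.appLE t.opensRange ⊤ e) := by
    have h2 : t ⁻¹ᵁ t.opensRange = ⊤ := Scheme.Hom.preimage_opensRange t
    have h3 : IsIso (t.app t.opensRange) := t.isIso_app _ le_rfl
    rw [Scheme.Hom.appLE]
    have : (homOfLE e) = eqToHom h2.symm := Subsingleton.elim _ _
    rw [this]
    infer_instance
  exact map_injective_of_isIso _ h1

/-- Equality of ideal sheaves can be checked on an affine open cover. -/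
theorem ext_of_jof {I J : P.IdealSheafData} (h : ∀ x : P, ∃ (R : CommRingCat.{u}) (t : Spec R ⟶ P) (_ : IsOpenImmersion t),
    x ∈ t.opensRange ∧ jof I t = jof J t) : I = J := by
  refine ext_of_forall_mem fun x => ?_
  obtain ⟨R, t, _, hx, h1⟩ := h x
  exact ⟨⟨t.opensRange, isAffineOpen_opensRange t⟩, hx, isOpenImmersion_eq t h1⟩

/-- The ideal of a closed immersion of finite presentation is locally finitely generated. -/
theorem fg_ker_ideal {X Y : Scheme.{u}} (j : Y ⟶ X) [IsClosedImmersion j]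
    [LocallyOfFinitePresentation j] (U : X.affineOpens) :
    (j.ker.ideal U).FG := by
  have hUY : IsAffineOpen (j ⁻¹ᵁ U.1) := U.2.preimage j
  have h1 : (j.appLE U.1 (j ⁻¹ᵁ U.1) le_rfl).hom.FinitePresentation :=
    j.finitePresentation_appLE U.2 hUY le_rfl
  have h2 : j.appLE U.1 (j ⁻¹ᵁ U.1) le_rfl = j.app U.1 := j.app_eq_appLE.symm
  rw [h2] at h1
  let _ : Algebra Γ(X, U.1) Γ(Y, j ⁻¹ᵁ U.1) := (j.app U.1).hom.toAlgebra
  have hfp : Algebra.FinitePresentation Γ(X, U.1) Γ(Y, j ⁻¹ᵁ U.1) := h1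
  have h3 := Algebra.FinitePresentation.ker_fG_of_surjective
    (Algebra.ofId Γ(X, U.1) Γ(Y, j ⁻¹ᵁ U.1)) (j.app_surjective U.1 U.2)
  rw [Scheme.Hom.ker_apply]
  exact h3

theorem jof_fg {R : CommRingCat.{u}} (h : Q ⟶ P) [IsClosedImmersion h] [LocallyOfFinitePresentation h]
    (t : Spec R ⟶ P) : (jof h.ker t).FG := by
  rw [jof, ← Scheme.IdealSheafData.ker_fst_of_isClosedImmersion]
  exact (fg_ker_ideal (pullback.fst t h) _).map _

end K722.JSpec
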