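import Groth.Agent.Divisors.K722.QuotAlg
import Groth.Agent.Divisors.K722.JSpec
import Groth.Agent.Divisors.K722.GrFam
import Groth.Agent.EGA2.K40.RelBC
import Groth.Agent.EGA2.K35.RelProjExists
import Groth.Agent.EGA2.K42.DomHom

/-!
# The relative `Proj` of a quotient algebra as a closed subscheme
-/

set_option autoImplicit false
universe u

open CategoryTheory CategoryTheory.Limits AlgebraicGeometry TopologicalSpace Opposite
open HomogeneousLocalization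

noncomputable section

namespace K722.Assemble

open K42.DomQ K42.DomMap K42.DomHom K722.QuotAlg K722.JSpec

variable {S P : Scheme.{u}} {𝒜 : RelProj.QCGrAlg S} {p : P ⟶ S}
  {chart : ∀ (U : S.Opens) (hU : IsAffineOpen U), (((p ⁻¹ᵁ U : P.Opens) : Scheme.{u}) ≅ Proj (𝒜.deg U hU))}
  (hP : RelProj.IsRelProj 𝒜 p chart)

theorem mk_eq_zero_iff {A σ : Type u} [CommRing A] [SetLike σ A] [AddSubgroupClass σ A] {ℬ : ℕ → σ} [GradedRing ℬ]
    {f : A} {d : ℕ} (hf : f ∈ ℬ d) (k : ℕ) (c : A) (hc : c ∈ ℬ (k • d)) :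
    Away.mk ℬ hf k c hc = 0 ↔ ∃ n, f ^ n * c = 0 := by
  rw [← (HomogeneousLocalization.val_injective (Submonoid.powers f)).eq_iff, Away.val_mk, val_zero,
    ← Localization.mk_zero 1, Localization.mk_eq_mk_iff, Localization.r_iff_exists]
  constructor
  · rintro ⟨⟨_, n, rfl⟩, h⟩
    refine ⟨n, ?_⟩
    simpa using h
  · rintro ⟨n, h⟩
    refine ⟨⟨f ^ n, n, rfl⟩, ?_⟩
    simpa using h

section ker

variable {ℬ : RelProj.QCGrAlg S} {φ : 𝒜.toQCAlg ⟶ ℬ.toQCAlg} (hφ : RelProj.IsGradedHom φ) {PB : Scheme.{u}}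
  {pB : PB ⟶ S} {chartB : ∀ (U : S.Opens) (hU : IsAffineOpen U), (((pB ⁻¹ᵁ U : PB.Opens) : Scheme.{u}) ≅ Proj (ℬ.deg U hU))}
  (hB : RelProj.IsRelProj ℬ pB chartB) {h : PB ⟶ P}
  (hh : RelProj.IsProjQMap (RelProj.QGrHom.ofHom φ hφ) p chart pB chartB h)

include hP hB hh

theorem isPullback_aff (U : S.Opens) (hU : IsAffineOpen U) {d : ℕ} (hd : 0 < d) (f : 𝒜.presheaf.obj (op U))
    (hf : f ∈ 𝒜.deg U hU d) :
    IsPullback (RelProj.awayEmb (RelProj.QGrHom.ofHom φ hφ) pB chartB U hU U hU le_rfl hd f hf)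
      (Spec.map (CommRingCat.ofHom (HomogeneousLocalization.Away.map
        ((RelProj.QGrHom.ofHom φ hφ).gradedAt U hU U hU le_rfl) f))) h (aff p chart U hU hd f hf) := by
  have := isIso_ι_of_eq_top hh.1
  have h1 := (isPullback (RelProj.QGrHom.ofHom φ hφ) hP hB (isProjQMapOn_of_isProjQMap hh) U hU U hU le_rfl
    le_rfl hd f hf).flip
  have h2 : IsPullback (RelProj.domQ (RelProj.QGrHom.ofHom φ hφ) pB chartB).ι
      ((RelProj.domQ (RelProj.QGrHom.ofHom φ hφ) pB chartB).ι ≫ h) h (𝟙 P) :=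
    IsPullback.of_horiz_isIso ⟨by simp⟩
  have h3 := h1.paste_horiz h2
  rw [affOn_ι, Category.comp_id] at h3
  exact h3

theorem mk_mem_jof_iff [IsClosedImmersion h] (U : S.Opens) (hU : IsAffineOpen U) {d : ℕ} (hd : 0 < d)
    (f : 𝒜.presheaf.obj (op U)) (hf : f ∈ 𝒜.deg U hU d) (k : ℕ) (c : 𝒜.presheaf.obj (op U))
    (hc : c ∈ 𝒜.deg U hU (k • d)) :
    Away.mk (𝒜.deg U hU) hf k c hc ∈ (jof h.ker (aff p chart U hU hd f hf) : Ideal (Away (𝒜.deg U hU) f)) ↔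
      ∃ n, f ^ n * c ∈ RingHom.ker (φ.hom.app (op U)).hom := by
  have h1 : jof h.ker (aff p chart U hU hd f hf) = RingHom.ker (CommRingCat.ofHom (HomogeneousLocalization.Away.map
        ((RelProj.QGrHom.ofHom φ hφ).gradedAt U hU U hU le_rfl) f)).hom :=
    jof_ker h _ _ _ (isPullback_aff hP hφ hB hh U hU hd f hf)
  rw [h1, RingHom.mem_ker]
  have h2 : (CommRingCat.ofHom (HomogeneousLocalization.Away.map
      ((RelProj.QGrHom.ofHom φ hφ).gradedAt U hU U hU le_rfl) f)).hom (Away.mk (𝒜.deg U hU) hf k c hc) =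
      Away.mk (ℬ.deg U hU) (((RelProj.QGrHom.ofHom φ hφ).gradedAt U hU U hU le_rfl).map_mem hf) k
        (((RelProj.QGrHom.ofHom φ hφ).gradedAt U hU U hU le_rfl) c)
        (((RelProj.QGrHom.ofHom φ hφ).gradedAt U hU U hU le_rfl).map_mem hc) := Away.map_mk _ _ _ _ _ _
  rw [h2, mk_eq_zero_iff]
  refine exists_congr fun n => ?_
  rw [RingHom.mem_ker, map_mul, map_pow, ← gradedAt_ofHom_apply hφ U hU le_rfl f,
    ← gradedAt_ofHom_apply hφ U hU le_rfl c]
  rfl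

end ker

include hP in
/-- The relative `Proj` of the quotient by an ideal defining the closed subscheme `i` on a cover by standard opens. -/
theorem exists_quot_iso {Z : Scheme.{u}} (i : Z ⟶ P) [IsClosedImmersion i] (K : IdSys 𝒜)
    (hK : ∀ x : P, ∃ (U : S.Opens) (hU : IsAffineOpen U) (d : ℕ) (hd : 0 < d) (f : 𝒜.presheaf.obj (op U))
      (hf : f ∈ 𝒜.deg U hU d), x ∈ std p chart U hU f ∧ ∀ (k : ℕ) (c : 𝒜.presheaf.obj (op U))
        (hc : c ∈ 𝒜.deg U hU (k • d)),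
        Away.mk (𝒜.deg U hU) hf k c hc ∈ (jof i.ker (aff p chart U hU hd f hf) : Ideal (Away (𝒜.deg U hU) f)) ↔
          ∃ n, f ^ n * c ∈ K.H U hU) :
    ∃ (ℬ : RelProj.QCGrAlg S) (φ : 𝒜.toQCAlg ⟶ ℬ.toQCAlg) (hφ : RelProj.IsGradedHom φ) (PB : Scheme.{u})
      (pB : PB ⟶ S) (chartB : ∀ (U : S.Opens) (hU : IsAffineOpen U), (((pB ⁻¹ᵁ U : PB.Opens) : Scheme.{u}) ≅ Proj (ℬ.deg U hU)))
      (h : PB ⟶ P) (e : PB ≅ Z),
      (∀ (U : S.Opens) (hU : IsAffineOpen U), Function.Surjective (φ.hom.app (op U)).hom ∧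
        RingHom.ker (φ.hom.app (op U)).hom = K.H U hU) ∧
        RelProj.IsRelProj ℬ pB chartB ∧ RelProj.IsProjQMap (RelProj.QGrHom.ofHom φ hφ) p chart pB chartB h ∧
        e.hom ≫ i = h := by
  obtain ⟨ℬ, φ, hφ, hs⟩ := K.exists_quot
  have hsurj : ∀ (U : S.Opens) (hU : IsAffineOpen U) (k : ℕ), ∀ b ∈ ℬ.deg U hU k,
      ∃ a ∈ 𝒜.deg U hU k, (φ.hom.app (op U)).hom a = b := by
    intro U hU k b hb
    obtain ⟨a, rfl⟩ := (hs U hU).1 b
    refine ⟨(DirectSum.decompose (𝒜.deg U hU) a k : 𝒜.presheaf.obj (op U)), SetLike.coe_mem _, ?_⟩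
    refine (GradedRingHom.map_directSumDecompose (f := RelProj.gradedHomAt φ hφ U hU) (x := a) (i := k)).trans ?_
    exact DirectSum.decompose_of_mem_same _ hb
  have hB := K35.RelProjExists.isRelProj ℬ
  have htop : RelProj.domQ (RelProj.QGrHom.ofHom φ hφ) (K35.RelProjExists.relProjπ ℬ) (K35.RelProjExists.chart ℬ) = ⊤ := by
    refine domQ_eq_top_of_surj hφ hB fun y => ?_
    obtain ⟨U, hU, hyU, -⟩ := exists_isAffineOpen_mem_and_subset (x := y) (U := ⊤) trivial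
    exact ⟨U, hU, 0, hyU, fun k _ b hb => hsurj U hU k b hb⟩
  obtain ⟨h, hh⟩ := K40.RelBC.exists_isProjQMap (u := RelProj.QGrHom.ofHom φ hφ) hP hB htop
  have hcl : IsClosedImmersion h := by
    refine of_forall_away' (Q := @IsClosedImmersion) hφ hP hB hh fun U hU d hd f hf => ?_
    refine IsClosedImmersion.spec_of_surjective _ ?_
    refine away_map_surjective _ (n := 0) (fun k _ b hb => ?_) hd hf
    obtain ⟨a, ha, hab⟩ := hsurj U hU k b hb
    exact ⟨a, ha, by rw [gradedAt_ofHom_apply]; exact hab⟩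
  have hker : i.ker = h.ker := by
    refine ext_of_jof fun x => ?_
    obtain ⟨U, hU, d, hd, f, hf, hx, hJ⟩ := hK x
    refine ⟨_, aff p chart U hU hd f hf, inferInstance, by rw [opensRange_aff]; exact hx, ?_⟩
    ext y
    obtain ⟨k, c, hc, rfl⟩ := Away.mk_surjective (𝒜.deg U hU) hf y
    rw [hJ k c hc, mk_mem_jof_iff hP hφ hB hh U hU hd f hf k c hc, (hs U hU).2]
  have := IsClosedImmersion.isIso_lift i h hker
  exact ⟨ℬ, φ, hφ, _, _, _, h, asIso (IsClosedImmersion.lift i h hker.le), hs, hB, hh,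
    IsClosedImmersion.lift_fac i h hker.le⟩

end K722.Assemble
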