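import Mathlib.RingTheory.Finiteness.ModuleFinitePresentation
import Mathlib.RingTheory.Finiteness.Projective

/-!
# Retracts and finite presentation

* `fp_of_retract`: a retract of a finitely presented module is finitely presented;
* `algFP_of_retract`: `R → D` of finite type, `D → B` finite with a `D`-linear retraction, `B` finitely presented over
  `R`: then `D` is finitely presented over `R`;
* `modFP`: in the same situation `B` is a finitely presented `D`-module.
-/

set_option autoImplicit false

namespace K722.Retract

/-- A retract of a finitely presented module is finitely presented. -/
theorem fp_of_retract {R M N : Type*} [CommRing R] [AddCommGroup M] [Module R M] [AddCommGroup N] [Module R N]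
    [Module.FinitePresentation R N] (i : M →ₗ[R] N) (r : N →ₗ[R] M) (h : ∀ x, r (i x) = x) :
    Module.FinitePresentation R M := by
  refine Module.finitePresentation_of_surjective r (fun x => ⟨i x, h x⟩) ?_
  have : LinearMap.ker r = LinearMap.range (LinearMap.id - i ∘ₗ r) := by
    ext x
    constructor
    · intro hx
      refine ⟨x, ?_⟩
      rw [LinearMap.mem_ker] at hx
      rw [LinearMap.sub_apply, LinearMap.id_apply, LinearMap.comp_apply, hx, map_zero, sub_zero]
    · rintro ⟨y, rfl⟩
      rw [LinearMap.mem_ker, LinearMap.sub_apply, LinearMap.id_apply, LinearMap.comp_apply, map_sub, h, sub_self]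
  rw [this]
  exact Submodule.fg_range _

section alg

variable {R D B : Type*} [CommRing R] [CommRing D] [CommRing B] [Algebra R D] [Algebra D B] [Algebra R B]
  [IsScalarTower R D B] [Algebra.FiniteType R D] [Algebra.FinitePresentation R B] [Module.Finite D B]

variable (R D B) in
include R in
/-- `B` is a finitely presented `D`-module. -/
theorem modFP : Module.FinitePresentation D B := by
  have : Algebra.FinitePresentation D B := Algebra.FinitePresentation.of_restrict_scalars_finitePresentation R D B
  exact Module.FinitePresentation.of_finite_of_finitePresentation D B

/-- An algebra of finite type which is a retract of a finite algebra over it finitely presented over the base is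
finitely presented. -/
theorem algFP_of_retract (r : B →ₗ[D] D) (hr : ∀ x, r (algebraMap D B x) = x) : Algebra.FinitePresentation R D := by
  obtain ⟨n, f, hf⟩ := Algebra.FiniteType.iff_quotient_mvPolynomial''.1 (inferInstance : Algebra.FiniteType R D)
  let P := MvPolynomial (Fin n) R
  let _ : Algebra P D := f.toRingHom.toAlgebra
  have t1 : IsScalarTower R P D := .of_algebraMap_eq' f.comp_algebraMap.symm
  let _ : Algebra P B := ((algebraMap D B).comp f.toRingHom).toAlgebra
  have t2 : IsScalarTower P D B := .of_algebraMap_eq' rfl
  have t3 : IsScalarTower R P B := .of_algebraMap_eq fun x => by
    change algebraMap R B x = algebraMap D B (f (algebraMap R P x))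
    rw [AlgHom.commutes, ← IsScalarTower.algebraMap_apply]
  have f1 : Module.Finite P D := Module.Finite.of_surjective (Algebra.linearMap P D) hf
  have f2 : Module.Finite P B := Module.Finite.trans D B
  have f3 : Algebra.FinitePresentation P B :=
    Algebra.FinitePresentation.of_restrict_scalars_finitePresentation R P B
  have f4 : Module.FinitePresentation P B := Module.FinitePresentation.of_finite_of_finitePresentation P B
  have f5 : Module.FinitePresentation P D :=
    fp_of_retract ((Algebra.linearMap D B).restrictScalars P) (r.restrictScalars P) hr
  refine Algebra.FinitePresentation.of_surjective (R := R) (A := P) (f := f) hf ?_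
  exact Module.FinitePresentation.fg_ker (Algebra.linearMap P D) hf

end alg

end K722.Retract
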