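import Mathlib.RingTheory.GradedAlgebra.HomogeneousLocalization
import Mathlib.RingTheory.Localization.Away.Basic
import Groth.Agent.Divisors.K722.Retract

/-!
# `A_(f)` and `A(n)_(f)` are retracts of `A / (f - 1)`

`A` graded, `f ∈ A_d`.
* `ret f d n : A →+ A_f`, `a ↦ a / f^((j - n)/d)` for `a` of degree `j ≡ n mod d`, zero for the other homogeneous `a`;
* `degLoc hf n ⊆ A_f`: the fractions `a / f^k` of degree `n`, an `A_(f)`-submodule;
* `incl`, `retB`: the maps `A(n)_(f) → A/(f-1) → A(n)_(f)`, `retB_incl`;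
* `fp_away`: if `A` is finitely presented over `R → A_0` then so is `A_(f)`;
* `fp_degLoc`: and `A(n)_(f)` is a finitely presented `A_(f)`-module.
-/

set_option autoImplicit false

open HomogeneousLocalization DirectSum

noncomputable section

namespace K722.DehRet

variable {A σ : Type*} [CommRing A] [SetLike σ A] [AddSubgroupClass σ A] {𝒜 : ℕ → σ} [GradedRing 𝒜]

/-- `f` as a unit of `A_f`. -/
def fu (f : A) : (Localization.Away f)ˣ := (IsLocalization.Away.algebraMap_isUnit (S := Localization.Away f) f).unit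

@[simp] theorem fu_val (f : A) : (fu f : Localization.Away f) = algebraMap A (Localization.Away f) f := rfl

/-- The coefficient `f^(-(j - n)/d)`, zero if `d` does not divide `j - n`. -/
def cf (f : A) (d : ℕ) (n : ℤ) (j : ℕ) : Localization.Away f :=
  if (d : ℤ) ∣ j - n then ((fu f ^ (-((j - n) / d)) : (Localization.Away f)ˣ) : Localization.Away f) else 0

theorem cf_add (f : A) {d : ℕ} (hd : 0 < d) (n : ℤ) (k j : ℕ) :
    algebraMap A (Localization.Away f) (f ^ k) * cf f d n (k * d + j) = cf f d n j := by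
  have h1 : ((k * d + j : ℕ) : ℤ) - n = (j - n) + k * d := by push_cast; ring
  have h2 : (d : ℤ) ∣ ((k * d + j : ℕ) : ℤ) - n ↔ (d : ℤ) ∣ (j - n) := by
    rw [h1]
    exact Int.dvd_add_left (Dvd.intro_left _ rfl)
  unfold cf
  by_cases h : (d : ℤ) ∣ (j - n)
  · rw [if_pos h, if_pos (h2.2 h), h1, Int.add_mul_ediv_right _ _ (by exact_mod_cast hd.ne'), map_pow, ← fu_val,
      ← Units.val_pow_eq_pow_val, ← Units.val_mul, ← zpow_natCast, ← zpow_add]
    congr 2
    ring
  · rw [if_neg h, if_neg (fun h' => h (h2.1 h')), mul_zero]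

variable (𝒜) in
/-- The additive map `A →+ A_f`. -/
def ret (f : A) (d : ℕ) (n : ℤ) : A →+ Localization.Away f :=
  (DirectSum.toAddMonoid fun j =>
    (AddMonoidHom.mulRight (cf f d n j)).comp
      ((algebraMap A (Localization.Away f)).toAddMonoidHom.comp (AddSubmonoidClass.subtype (𝒜 j)))).comp
  (DirectSum.decomposeAddEquiv 𝒜).toAddMonoidHom

theorem ret_of_mem (f : A) (d : ℕ) (n : ℤ) {j : ℕ} {a : A} (ha : a ∈ 𝒜 j) :
    ret 𝒜 f d n a = algebraMap A (Localization.Away f) a * cf f d n j := by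
  unfold ret
  rw [AddMonoidHom.comp_apply]
  have h1 : (DirectSum.decomposeAddEquiv 𝒜).toAddMonoidHom a = DirectSum.of (fun i => 𝒜 i) j ⟨a, ha⟩ :=
    DirectSum.decompose_of_mem 𝒜 ha
  rw [h1, DirectSum.toAddMonoid_of]
  rfl

/-- Additive maps agreeing on homogeneous elements agree. -/
theorem addHom_ext {M : Type*} [AddCommMonoid M] (φ ψ : A →+ M) (h : ∀ (j : ℕ) (a : A), a ∈ 𝒜 j → φ a = ψ a)
    (a : A) : φ a = ψ a := by
  classical
  rw [← DirectSum.sum_support_decompose 𝒜 a, map_sum, map_sum]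
  exact Finset.sum_congr rfl fun j _ => h j _ (SetLike.coe_mem _)

theorem ret_mul (f : A) {d : ℕ} (hd : 0 < d) (n : ℤ) {k : ℕ} {b : A} (hb : b ∈ 𝒜 (k * d)) (a : A) :
    algebraMap A (Localization.Away f) (f ^ k) * ret 𝒜 f d n (b * a) =
      algebraMap A (Localization.Away f) b * ret 𝒜 f d n a := by
  refine addHom_ext (𝒜 := 𝒜)
    ((AddMonoidHom.mulLeft (algebraMap A (Localization.Away f) (f ^ k))).comp
      ((ret 𝒜 f d n).comp (AddMonoidHom.mulLeft b)))
    ((AddMonoidHom.mulLeft (algebraMap A (Localization.Away f) b)).comp (ret 𝒜 f d n)) ?_ a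
  intro j a ha
  change algebraMap A (Localization.Away f) (f ^ k) * ret 𝒜 f d n (b * a) =
      algebraMap A (Localization.Away f) b * ret 𝒜 f d n a
  rw [ret_of_mem f d n ha, ret_of_mem f d n (SetLike.mul_mem_graded hb ha), ← cf_add f hd n k j, map_mul]
  ring

theorem ret_sub (f : A) {d : ℕ} (hd : 0 < d) (hf : f ∈ 𝒜 d) (n : ℤ) (a : A) : ret 𝒜 f d n ((f - 1) * a) = 0 := by
  rw [sub_mul, one_mul, map_sub, sub_eq_zero]
  have h := ret_mul f hd n (k := 1) (b := f) (by rwa [one_mul]) a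
  rw [pow_one, ← fu_val] at h
  exact (fu f).isUnit.mul_left_cancel h

/-- The quotient `A / (f - 1)`. -/
abbrev Q (f : A) : Type _ := A ⧸ (Ideal.span {f - 1} : Ideal A)

theorem mk_f (f : A) : (Ideal.Quotient.mk (Ideal.span {f - 1}) f : Q f) = 1 := by
  rw [← map_one (Ideal.Quotient.mk (Ideal.span {f - 1})), Ideal.Quotient.eq]
  exact Ideal.subset_span rfl

/-- The map `A_f → A / (f - 1)`. -/
def incl (f : A) : Localization.Away f →+* Q f :=
  IsLocalization.Away.lift (S := Localization.Away f) f (g := Ideal.Quotient.mk (Ideal.span {f - 1}))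
    (by rw [mk_f]; exact isUnit_one)

theorem incl_algebraMap (f a : A) :
    incl f (algebraMap A (Localization.Away f) a) = Ideal.Quotient.mk (Ideal.span {f - 1}) a :=
  IsLocalization.Away.lift_eq f _ a

theorem incl_mk (f a : A) (k : ℕ) (h : f ^ k ∈ Submonoid.powers f) :
    incl f (Localization.mk a ⟨f ^ k, h⟩) = Ideal.Quotient.mk (Ideal.span {f - 1}) a := by
  have h1 : Localization.mk a ⟨f ^ k, h⟩ * algebraMap A (Localization.Away f) (f ^ k) =
      algebraMap A (Localization.Away f) a := by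
    rw [Localization.mk_eq_mk']
    exact IsLocalization.mk'_spec (Localization.Away f) a ⟨f ^ k, h⟩
  have h2 := congrArg (incl f) h1
  rwa [map_mul, incl_algebraMap, incl_algebraMap, map_pow, mk_f, one_pow, mul_one] at h2

theorem ret_congr (f : A) {d : ℕ} (hd : 0 < d) (hf : f ∈ 𝒜 d) (n : ℤ) {a b : A}
    (h : (Ideal.Quotient.mk (Ideal.span {f - 1}) a : Q f) = Ideal.Quotient.mk (Ideal.span {f - 1}) b) :
    ret 𝒜 f d n a = ret 𝒜 f d n b := by
  rw [Ideal.Quotient.eq] at h
  obtain ⟨c, hc⟩ := Ideal.mem_span_singleton'.1 h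
  rw [← sub_eq_zero, ← map_sub, ← hc, mul_comm]
  exact ret_sub f hd hf n c

variable (𝒜) in
/-- The additive map `A / (f - 1) → A_f`. -/
def retB (f : A) (d : ℕ) (n : ℤ) (x : Q f) : Localization.Away f :=
  ret 𝒜 f d n (Function.surjInv Ideal.Quotient.mk_surjective x)

theorem retB_mk (f : A) {d : ℕ} (hd : 0 < d) (hf : f ∈ 𝒜 d) (n : ℤ) (a : A) :
    retB 𝒜 f d n (Ideal.Quotient.mk (Ideal.span {f - 1}) a) = ret 𝒜 f d n a :=
  ret_congr f hd hf n (Function.surjInv_eq _ _)

section away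

variable (f : A) {d : ℕ} (hd : 0 < d) (hf : f ∈ 𝒜 d)

include hd hf

theorem retB_add (n : ℤ) (x y : Q f) : retB 𝒜 f d n (x + y) = retB 𝒜 f d n x + retB 𝒜 f d n y := by
  obtain ⟨a, rfl⟩ := Ideal.Quotient.mk_surjective x
  obtain ⟨b, rfl⟩ := Ideal.Quotient.mk_surjective y
  rw [← map_add, retB_mk f hd hf, retB_mk f hd hf, retB_mk f hd hf, map_add]

theorem retB_smul (n : ℤ) (z : Away 𝒜 f) (x : Q f) : retB 𝒜 f d n (incl f z.val * x) = z.val * retB 𝒜 f d n x := by
  obtain ⟨a, rfl⟩ := Ideal.Quotient.mk_surjective x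
  obtain ⟨k, b, hb, rfl⟩ := Away.mk_surjective 𝒜 hf z
  rw [Away.val_mk, incl_mk, ← map_mul, retB_mk f hd hf, retB_mk f hd hf]
  have h1 := ret_mul f hd n (k := k) (b := b) (by simpa using hb) a
  have h2 : Localization.mk b ⟨f ^ k, by use k⟩ * algebraMap A (Localization.Away f) (f ^ k) =
      algebraMap A (Localization.Away f) b := by
    rw [Localization.mk_eq_mk']
    exact IsLocalization.mk'_spec (Localization.Away f) b ⟨f ^ k, by use k⟩
  have h3 : IsUnit (algebraMap A (Localization.Away f) (f ^ k)) := by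
    rw [map_pow, ← fu_val]
    exact (fu f).isUnit.pow k
  apply h3.mul_left_cancel
  rw [h1, ← h2]
  ring

omit hd hf in
variable (𝒜) in
/-- The fractions `a / f^k` of degree `n`. -/
def IsDeg (d : ℕ) (n : ℤ) (x : Localization.Away f) : Prop :=
  ∃ (k i : ℕ) (a : A) (_ : a ∈ 𝒜 i), (i : ℤ) = k * d + n ∧
    algebraMap A (Localization.Away f) (f ^ k) * x = algebraMap A (Localization.Away f) a

theorem retB_incl (n : ℤ) {x : Localization.Away f} (hx : IsDeg 𝒜 f d n x) : retB 𝒜 f d n (incl f x) = x := by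
  obtain ⟨k, i, a, ha, hi, h⟩ := hx
  have h1 : incl f x = Ideal.Quotient.mk (Ideal.span {f - 1}) a := by
    have := congrArg (incl f) h
    rwa [map_mul, incl_algebraMap, incl_algebraMap, map_pow, mk_f, one_pow, one_mul] at this
  rw [h1, retB_mk f hd hf, ret_of_mem f d n ha]
  have h3 : IsUnit (algebraMap A (Localization.Away f) (f ^ k)) := by
    rw [map_pow, ← fu_val]
    exact (fu f).isUnit.pow k
  apply h3.mul_left_cancel
  rw [h]
  have h4 : cf f d n i * algebraMap A (Localization.Away f) (f ^ k) = 1 := by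
    have h5 : (i : ℤ) - n = k * d := by rw [hi]; ring
    unfold cf
    rw [h5, if_pos (Dvd.intro_left _ rfl), Int.mul_ediv_cancel _ (by exact_mod_cast hd.ne'), map_pow, ← fu_val,
      ← Units.val_pow_eq_pow_val, ← Units.val_mul, ← zpow_natCast, ← zpow_add, neg_add_cancel, zpow_zero, Units.val_one]
  calc _ = algebraMap A (Localization.Away f) a * (cf f d n i * algebraMap A (Localization.Away f) (f ^ k)) := by ring
    _ = _ := by rw [h4, mul_one]

end away

end K722.DehRet
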