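import Mathlib.RingTheory.GradedAlgebra.FiniteType
import Groth.Agent.Divisors.K722.DehRet

/-!
# Finite presentation of `A_(f)` and `A(n)_(f)`

`A` graded and finitely presented over `R → A_0`, `f ∈ A_d`, `d > 0`.
* `fp_away`: `A_(f)` is finitely presented over `R`;
* `degLoc`, `fp_degLoc`: the `A_(f)`-module of fractions of degree `n` is finitely presented;
* `fp_of_equiv`: the same for a semilinearly isomorphic module.
-/

set_option autoImplicit false

open HomogeneousLocalization DirectSum

noncomputable section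

namespace K722.DehFP

open K722.DehRet K722.Retract

variable {A σ : Type*} [CommRing A] [SetLike σ A] [AddSubgroupClass σ A] {𝒜 : ℕ → σ} [GradedRing 𝒜]

theorem pow_mem' {f : A} {d : ℕ} (hf : f ∈ 𝒜 d) (k : ℕ) : f ^ k ∈ 𝒜 (k * d) := by
  simpa using SetLike.pow_mem_graded k hf

theorem isUnit_pow (f : A) (k : ℕ) : IsUnit (algebraMap A (Localization.Away f) (f ^ k)) := by
  rw [map_pow, ← fu_val]
  exact (fu f).isUnit.pow k

section closure

variable (f : A) {d : ℕ} (hf : f ∈ 𝒜 d)

include hf in
theorem isDeg_add {n : ℤ} {x y : Localization.Away f} (hx : IsDeg 𝒜 f d n x) (hy : IsDeg 𝒜 f d n y) :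
    IsDeg 𝒜 f d n (x + y) := by
  obtain ⟨k, i, a, ha, hi, h⟩ := hx
  obtain ⟨l, j, b, hb, hj, h'⟩ := hy
  refine ⟨l + k, l * d + i, f ^ l * a + f ^ k * b, ?_, by push_cast; rw [hi]; ring, ?_⟩
  · refine add_mem (SetLike.mul_mem_graded (pow_mem' hf l) ha) ?_
    have : l * d + i = k * d + j := by zify; rw [hi, hj]; ring
    rw [this]
    exact SetLike.mul_mem_graded (pow_mem' hf k) hb
  · rw [map_add, map_mul, map_mul, ← h, ← h', pow_add, map_mul]
    ring

omit [GradedRing 𝒜] in
variable (𝒜) (d) in
theorem isDeg_zero (hd : 0 < d) (n : ℤ) : IsDeg 𝒜 f d n 0 := by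
  refine ⟨n.natAbs, ((n.natAbs : ℤ) * d + n).toNat, 0, zero_mem _, ?_, by rw [mul_zero, map_zero]⟩
  rw [Int.toNat_of_nonneg]
  have h1 : -n ≤ (n.natAbs : ℤ) := by omega
  have h2 : (n.natAbs : ℤ) * 1 ≤ (n.natAbs : ℤ) * d := by
    apply mul_le_mul_of_nonneg_left _ (by positivity)
    exact_mod_cast hd
  omega

include hf in
theorem isDeg_smul {n : ℤ} (z : Away 𝒜 f) {x : Localization.Away f} (hx : IsDeg 𝒜 f d n x) :
    IsDeg 𝒜 f d n (z.val * x) := by
  obtain ⟨k, i, a, ha, hi, h⟩ := hx
  obtain ⟨l, b, hb, rfl⟩ := Away.mk_surjective 𝒜 hf z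
  refine ⟨l + k, l • d + i, b * a, SetLike.mul_mem_graded hb ha, by push_cast; rw [hi, smul_eq_mul]; push_cast; ring, ?_⟩
  have h2 : Localization.mk b ⟨f ^ l, by use l⟩ * algebraMap A (Localization.Away f) (f ^ l) =
      algebraMap A (Localization.Away f) b := by
    rw [Localization.mk_eq_mk']
    exact IsLocalization.mk'_spec (Localization.Away f) b ⟨f ^ l, by use l⟩
  rw [Away.val_mk, pow_add, map_mul, map_mul, ← h, ← h2]
  ring

/-- The fractions of degree `n`. -/
def degLoc {f : A} {d : ℕ} (hd : 0 < d) (hf : f ∈ 𝒜 d) (n : ℤ) : Submodule (Away 𝒜 f) (Localization.Away f) where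
  carrier := {x | IsDeg 𝒜 f d n x}
  add_mem' := isDeg_add f hf
  zero_mem' := isDeg_zero 𝒜 f d hd n
  smul_mem' z x hx := by
    rw [Algebra.smul_def]
    exact isDeg_smul f hf z hx

include hf in
theorem isDeg_ret (hd : 0 < d) (n : ℤ) (a : A) : IsDeg 𝒜 f d n (ret 𝒜 f d n a) := by
  classical
  rw [← DirectSum.sum_support_decompose 𝒜 a, map_sum]
  refine Submodule.sum_mem (degLoc hd hf n) fun j _ => ?_
  have ha : (DirectSum.decompose 𝒜 a j : A) ∈ 𝒜 j := SetLike.coe_mem _
  rw [ret_of_mem f d n ha]
  change IsDeg 𝒜 f d n _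
  unfold cf
  by_cases h : (d : ℤ) ∣ (j - n)
  · rw [if_pos h]
    obtain ⟨m, hm⟩ := h
    rw [hm, Int.mul_ediv_cancel_left _ (by exact_mod_cast hd.ne')]
    refine ⟨m.toNat, (-m).toNat * d + j, f ^ (-m).toNat * (DirectSum.decompose 𝒜 a j : A),
      SetLike.mul_mem_graded (pow_mem' hf _) ha, ?_, ?_⟩
    · push_cast
      have h1 : ((m.toNat : ℤ)) = m + (-m).toNat := by omega
      have h2 : (j : ℤ) = d * m + n := by rw [← hm]; ring
      rw [h2]
      linear_combination (-(d : ℤ)) * h1
    · rw [map_mul, map_pow, map_pow, ← fu_val, ← Units.val_pow_eq_pow_val, ← Units.val_pow_eq_pow_val, ← zpow_natCast,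
        ← zpow_natCast]
      have h3 : (fu f ^ (-m) : (Localization.Away f)ˣ) = fu f ^ (((-m).toNat : ℤ)) * (fu f ^ (m.toNat : ℤ))⁻¹ := by
        rw [← zpow_neg, ← zpow_add]
        congr 1
        omega
      have h4 : ((fu f ^ (m.toNat : ℤ) : (Localization.Away f)ˣ) : Localization.Away f) *
          (((fu f ^ (m.toNat : ℤ))⁻¹ : (Localization.Away f)ˣ) : Localization.Away f) = 1 := Units.mul_inv _
      rw [h3, Units.val_mul]
      linear_combination (algebraMap A (Localization.Away f) (DirectSum.decompose 𝒜 a j : A) *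
        ((fu f ^ (((-m).toNat : ℤ)) : (Localization.Away f)ˣ) : Localization.Away f)) * h4
  · rw [if_neg h, mul_zero]
    exact isDeg_zero 𝒜 f d hd n

end closure

section fp

variable {R : Type*} [CommRing R] (s : R →+* 𝒜 0) (hs : ((algebraMap (𝒜 0) A).comp s).FinitePresentation)
  (f : A) {d : ℕ} (hd : 0 < d) (hf : f ∈ 𝒜 d)

variable (𝒜) in
/-- The ring homomorphism `A_(f) → A / (f - 1)`. -/
def gB : Away 𝒜 f →+* Q f := (incl f).comp (algebraMap (Away 𝒜 f) (Localization.Away f))

theorem gB_apply (z : Away 𝒜 f) : gB 𝒜 f z = incl f z.val := rfl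

include hf in
theorem gB_mk (k : ℕ) (a : A) (ha : a ∈ 𝒜 (k • d)) :
    gB 𝒜 f (Away.mk 𝒜 hf k a ha) = Ideal.Quotient.mk (Ideal.span {f - 1}) a := by
  rw [gB_apply, Away.val_mk, incl_mk]

theorem gB_fromZero (x : 𝒜 0) :
    gB 𝒜 f (fromZeroRingHom 𝒜 (.powers f) x) = Ideal.Quotient.mk (Ideal.span {f - 1}) (x : A) := by
  rw [gB_apply, ← incl_algebraMap]
  rfl

include hs in
/-- The ring homomorphism `R → A/(f-1)` is finitely presented. -/
theorem fp_Q : ((Ideal.Quotient.mk (Ideal.span {f - 1})).comp ((algebraMap (𝒜 0) A).comp s)).FinitePresentation := by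
  refine RingHom.FinitePresentation.comp ?_ hs
  refine RingHom.FinitePresentation.of_surjective _ Ideal.Quotient.mk_surjective ?_
  rw [Ideal.mk_ker]
  exact ⟨{f - 1}, by simp⟩

include hd hf in
/-- `A/(f-1)` is integral over `A_(f)`. -/
theorem isIntegral_gB (x : Q f) : (gB 𝒜 f).IsIntegralElem x := by
  classical
  let _ := (gB 𝒜 f).toAlgebra
  change IsIntegral (Away 𝒜 f) x
  obtain ⟨a, rfl⟩ := Ideal.Quotient.mk_surjective x
  rw [← DirectSum.sum_support_decompose 𝒜 a, map_sum]
  refine IsIntegral.sum _ fun j _ => ?_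
  refine IsIntegral.of_pow hd ?_
  have ha : (DirectSum.decompose 𝒜 a j : A) ^ d ∈ 𝒜 (j • d) := by
    have := SetLike.pow_mem_graded d (SetLike.coe_mem (DirectSum.decompose 𝒜 a j))
    rwa [smul_eq_mul, mul_comm] at this
  rw [← map_pow, ← gB_mk f hf j _ ha]
  exact isIntegral_algebraMap (R := Away 𝒜 f) (x := Away.mk 𝒜 hf j _ ha)

include hs hf in
/-- `A_(f)` is of finite type over `R`. -/
theorem ft_away : ((fromZeroRingHom 𝒜 (.powers f)).comp s).FiniteType := by
  have h := RingHom.FiniteType.of_finitePresentation hs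
  have h1 : s.FiniteType := by
    have h1 : s = (GradedRing.projZeroRingHom' 𝒜).comp ((algebraMap (𝒜 0) A).comp s) := by
      ext r
      change ((s r : 𝒜 0) : A) = GradedRing.projZeroRingHom' 𝒜 ((s r : 𝒜 0) : A)
      simp
    rw [h1]
    exact RingHom.FiniteType.comp (RingHom.FiniteType.of_surjective _
      (GradedRing.projZeroRingHom'_surjective 𝒜)) h
  have h2 : Algebra.FiniteType (𝒜 0) A := RingHom.FiniteType.of_comp_finiteType h
  have h3 : Algebra.FiniteType (𝒜 0) (Away 𝒜 f) := Away.finiteType f d hf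
  exact RingHom.FiniteType.comp (f := s) (g := fromZeroRingHom 𝒜 (.powers f)) h3 h1

include hf in
theorem exists_val_eq {x : Localization.Away f} (hx : IsDeg 𝒜 f d 0 x) : ∃ z : Away 𝒜 f, z.val = x := by
  obtain ⟨k, i, a, ha, hi, h⟩ := hx
  have hi' : i = k • d := by rw [smul_eq_mul]; zify; rw [hi, add_zero]
  subst hi'
  refine ⟨Away.mk 𝒜 hf k a ha, ?_⟩
  apply (isUnit_pow f k).mul_left_cancel
  rw [h, Away.val_mk, mul_comm, Localization.mk_eq_mk']
  exact IsLocalization.mk'_spec (Localization.Away f) a ⟨f ^ k, by use k⟩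

include hd hf hs in
theorem fp_all (n : ℤ) : ((fromZeroRingHom 𝒜 (.powers f)).comp s).FinitePresentation ∧
    Module.FinitePresentation (Away 𝒜 f) (degLoc hd hf n) := by
  let _ : Algebra (Away 𝒜 f) (Q f) := (gB 𝒜 f).toAlgebra
  let _ : Algebra R (Away 𝒜 f) := ((fromZeroRingHom 𝒜 (.powers f)).comp s).toAlgebra
  let _ : Algebra R (Q f) := ((gB 𝒜 f).comp ((fromZeroRingHom 𝒜 (.powers f)).comp s)).toAlgebra
  have t : IsScalarTower R (Away 𝒜 f) (Q f) := .of_algebraMap_eq' rfl
  have e : (gB 𝒜 f).comp ((fromZeroRingHom 𝒜 (.powers f)).comp s) =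
      (Ideal.Quotient.mk (Ideal.span {f - 1})).comp ((algebraMap (𝒜 0) A).comp s) :=
    RingHom.ext fun r => gB_fromZero f (s r)
  have h1 : Algebra.FinitePresentation R (Q f) := by
    have := fp_Q s hs f
    rw [← e] at this
    exact this
  have h2 : Algebra.FiniteType R (Away 𝒜 f) := ft_away s hs f hf
  have h3 : Algebra.IsIntegral (Away 𝒜 f) (Q f) := ⟨isIntegral_gB f hd hf⟩
  have h4 : Algebra.FiniteType (Away 𝒜 f) (Q f) := Algebra.FiniteType.of_restrictScalars_finiteType R _ _
  have h5 : Module.Finite (Away 𝒜 f) (Q f) := Algebra.IsIntegral.finite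
  have hsm : ∀ (z : Away 𝒜 f) (x : Q f), z • x = incl f z.val * x := fun z x => Algebra.smul_def z x
  constructor
  · have h6 : ∀ x : Q f, ∃ z : Away 𝒜 f, z.val = retB 𝒜 f d 0 x := by
      intro x
      obtain ⟨a, rfl⟩ := Ideal.Quotient.mk_surjective x
      rw [retB_mk f hd hf]
      exact exists_val_eq f hf (isDeg_ret f hf hd 0 a)
    choose r hr using h6
    let r' : Q f →ₗ[Away 𝒜 f] Away 𝒜 f :=
      { toFun := r
        map_add' := fun x y => by
          apply HomogeneousLocalization.val_injective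
          rw [HomogeneousLocalization.val_add, hr, hr, hr, retB_add f hd hf]
        map_smul' := fun z x => by
          apply HomogeneousLocalization.val_injective
          rw [hsm, hr, retB_smul f hd hf, RingHom.id_apply, smul_eq_mul, HomogeneousLocalization.val_mul, hr] }
    refine algFP_of_retract (R := R) (D := Away 𝒜 f) (B := Q f) r' fun z => ?_
    apply HomogeneousLocalization.val_injective
    change (r (incl f z.val)).val = z.val
    rw [hr, retB_incl f hd hf]
    obtain ⟨k, a, ha, rfl⟩ := Away.mk_surjective 𝒜 hf z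
    refine ⟨k, k • d, a, ha, by rw [smul_eq_mul]; push_cast; ring, ?_⟩
    rw [Away.val_mk, mul_comm, Localization.mk_eq_mk']
    exact IsLocalization.mk'_spec (Localization.Away f) a ⟨f ^ k, by use k⟩
  · have h7 : Module.FinitePresentation (Away 𝒜 f) (Q f) := modFP R (Away 𝒜 f) (Q f)
    refine fp_of_retract (R := Away 𝒜 f) (M := degLoc hd hf n) (N := Q f)
      { toFun := fun x => incl f x.1
        map_add' := fun x y => map_add _ _ _
        map_smul' := fun z x => by
          rw [RingHom.id_apply, hsm, ← map_mul, Submodule.coe_smul, Algebra.smul_def]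
          rfl }
      { toFun := fun x => ⟨retB 𝒜 f d n x, by
          obtain ⟨a, rfl⟩ := Ideal.Quotient.mk_surjective x
          rw [retB_mk f hd hf]
          exact isDeg_ret f hf hd n a⟩
        map_add' := fun x y => Subtype.ext (retB_add f hd hf n x y)
        map_smul' := fun z x => Subtype.ext (by
          rw [RingHom.id_apply, hsm, Submodule.coe_smul, Algebra.smul_def]
          exact retB_smul f hd hf n z x) } fun x => ?_
    exact Subtype.ext (retB_incl f hd hf n x.2)

end fp

/-- Transport of finite presentation along a semilinear equivalence. -/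
theorem fp_of_equiv {D R' M H : Type*} [CommRing D] [CommRing R'] [AddCommGroup M] [Module D M] [AddCommGroup H]
    [Module R' H] [Module.FinitePresentation D M] (σ : D →+* R') (hσ : Function.Bijective σ) (Ψ : M →+ H)
    (hΨ : Function.Bijective Ψ) (h : ∀ (z : D) (x : M), Ψ (z • x) = σ z • Ψ x) : Module.FinitePresentation R' H := by
  let _ : Algebra D R' := σ.toAlgebra
  let _ : Module D H := Module.compHom H σ
  have t : IsScalarTower D R' H := .of_algebraMap_smul fun _ _ => rfl
  let Ψ' : M →ₗ[D] H := { Ψ with map_smul' := h }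
  have key : IsBaseChange R' Ψ' := by
    refine IsBaseChange.of_lift_unique _ fun Q _ _ _ _ g => ?_
    have e : ∀ x : H, Ψ (Function.surjInv hΨ.2 x) = x := fun x => Function.surjInv_eq hΨ.2 x
    refine ⟨{ toFun := fun x => g (Function.surjInv hΨ.2 x)
              map_add' := fun x y => by
                rw [← map_add]
                congr 1
                apply hΨ.1
                rw [map_add, e, e, e]
              map_smul' := fun r x => by
                obtain ⟨z, rfl⟩ := hσ.2 r
                have h1 : Function.surjInv hΨ.2 (σ z • x) = z • Function.surjInv hΨ.2 x := by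
                  apply hΨ.1
                  rw [h, e, e]
                rw [h1, g.map_smul, RingHom.id_apply]
                exact (algebraMap_smul R' z _).symm }, ?_, ?_⟩
    · ext x
      change g (Function.surjInv hΨ.2 (Ψ x)) = g x
      congr 1
      exact hΨ.1 (e _)
    · intro g' hg'
      ext x
      change g' x = g (Function.surjInv hΨ.2 x)
      rw [← hg']
      change g' x = g' (Ψ (Function.surjInv hΨ.2 x))
      rw [e]
  exact FinitePresentation.of_isBaseChange Ψ' key

/-- The same with the maps in the other direction. -/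
theorem fp_of_equiv' {D R' M H : Type*} [CommRing D] [CommRing R'] [AddCommGroup M] [Module D M] [AddCommGroup H]
    [Module R' H] [Module.FinitePresentation D M] (σ : R' →+* D) (hσ : Function.Bijective σ) (Ψ : H →+ M)
    (hΨ : Function.Bijective Ψ) (h : ∀ (z : R') (x : H), Ψ (z • x) = σ z • Ψ x) : Module.FinitePresentation R' H := by
  let e := RingEquiv.ofBijective σ hσ
  let E := AddEquiv.ofBijective Ψ hΨ
  refine fp_of_equiv (D := D) (M := M) (e.symm : D →+* R') e.symm.bijective (E.symm : M →+ H) E.symm.bijective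
    fun z x => ?_
  apply hΨ.1
  rw [h]
  change E (E.symm (z • x)) = e (e.symm z) • E (E.symm x)
  rw [AddEquiv.apply_symm_apply, AddEquiv.apply_symm_apply, RingEquiv.apply_symm_apply]

end K722.DehFP
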