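import Groth.Agent.PerfA.IdealModule
import Groth.Prelude.Def_BlowUp2

set_option autoImplicit false

/-! Isomorphic comparable effective Cartier divisors on a scheme with Artinian ring of global
functions are equal. -/

universe u
open CategoryTheory CategoryTheory.Limits AlgebraicGeometry Opposite TopologicalSpace

namespace K722.EffEq

open Groth.Agent.CohqB.QC2 Groth.Agent.PerfA

variable {X : Scheme.{u}}

/-- Local equality of functions. -/
theorem eq_of_cover {U : X.Opens} (s t : Γ(X, U))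
    (h : ∀ x ∈ U, ∃ (V : X.Opens) (hV : V ≤ U), x ∈ V ∧ resR hV s = resR hV t) : s = t := by
  choose V hV hx hst using h
  refine TopCat.Sheaf.eq_of_locally_eq' X.sheaf (fun p : U => V p.1 p.2) U
    (fun p => homOfLE (hV p.1 p.2)) ?_ s t fun p => hst p.1 p.2
  intro x hx'
  exact TopologicalSpace.Opens.mem_iSup.2 ⟨⟨x, hx'⟩, hx x hx'⟩

/-- Restriction of a nonzerodivisor on an affine open. -/
theorem eq_zero_of_mul_res {U : X.Opens} (hU : IsAffineOpen U) {a : Γ(X, U)}
    (ha : a ∈ nonZeroDivisors Γ(X, U)) {V : X.Opens} (hV : V ≤ U) (g : Γ(X, V))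
    (h : g * resR hV a = 0) : g = 0 := by
  refine eq_of_cover g 0 fun x hx => ?_
  obtain ⟨f, hfV, hxf⟩ := hU.exists_basicOpen_le ⟨x, hx⟩ (hV hx)
  refine ⟨X.basicOpen f, hfV, hxf, ?_⟩
  rw [map_zero]
  have h1 := congrArg (resR hfV) h
  rw [map_mul, map_zero, resR_resR] at h1
  have := hU.isLocalization_basicOpen f
  have h2 : algebraMap Γ(X, U) Γ(X, X.basicOpen f) a ∈ nonZeroDivisors Γ(X, X.basicOpen f) :=
    IsLocalization.map_nonZeroDivisors_le (Submonoid.powers f) _ ⟨a, ha, rfl⟩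
  exact (mem_nonZeroDivisors_iff_right.1 h2) _ h1

/-- The map `I ≅ J → O` on sections. -/
noncomputable def α {I J : X.IdealSheafData} (φ : ClSub.idealMod I ≅ ClSub.idealMod J)
    {V : X.Opens} (x : Γ(ClSub.idealMod I, V)) : Γ(X, V) :=
  IdealModule.val J (φ.hom.app V x)

section

variable {I J : X.IdealSheafData} (φ : ClSub.idealMod I ≅ ClSub.idealMod J)

theorem α_res {U V : X.Opens} (h : V ≤ U) (x : Γ(ClSub.idealMod I, U)) :
    α φ (res _ h x) = resR h (α φ x) := by
  rw [α, app_res, IdealModule.val_res]; rfl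

theorem α_smul {V : X.Opens} (r : Γ(X, V)) (x : Γ(ClSub.idealMod I, V)) :
    α φ (r • x) = r * α φ x := by
  rw [α, Scheme.Modules.Hom.app_smul, IdealModule.val_smul]; rfl

theorem α_injective {V : X.Opens} : Function.Injective (α φ (V := V)) := by
  intro x y h
  have h1 := IdealModule.val_injective J V h
  have h2 : ∀ z : Γ(ClSub.idealMod I, V), φ.inv.app V (φ.hom.app V z) = z := fun z => by
    exact congrArg (fun ψ : ClSub.idealMod I ⟶ ClSub.idealMod I => ψ.app V z) φ.hom_inv_id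
  rw [← h2 x, h1, h2 y]

end

theorem eq_of_iso {I J : X.IdealSheafData} (hle : J ≤ I) (hI : BlowUp.IsEffCartierIdeal I)
    (φ : ClSub.idealMod I ≅ ClSub.idealMod J) [IsArtinianRing Γ(X, ⊤)] : I = J := by
  choose U hxU a ha hIa using hI
  have hs : ∀ x, ∃ s : Γ(ClSub.idealMod I, (U x).1), IdealModule.val I s = a x := fun x =>
    IdealModule.exists_val_eq I (U x) (by rw [hIa]; exact Ideal.mem_span_singleton_self _)
  choose s hs using hs
  have hf : ∀ x, ∃ f : Γ(X, (U x).1), α φ (s x) = f * a x := fun x => by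
    have h1 : α φ (s x) ∈ I.ideal (U x) := hle (U x) (IdealModule.val_mem J (U x) _)
    rw [hIa, Ideal.mem_span_singleton'] at h1
    obtain ⟨f, hf⟩ := h1
    exact ⟨f, hf.symm⟩
  choose f hf using hf
  -- the sections over an affine open inside `U x`
  have hgen : ∀ (x : X) (V : X.affineOpens) (hV : V ≤ U x) (t : Γ(ClSub.idealMod I, V.1)),
      ∃ r : Γ(X, V.1), t = r • res _ hV (s x) ∧ IdealModule.val I t = r * resR hV (a x) := by
    intro x V hV t
    have h1 := IdealModule.val_mem I V t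
    rw [← I.map_ideal hV, hIa, Ideal.map_span, Set.image_singleton,
      Ideal.mem_span_singleton'] at h1
    obtain ⟨r, hr⟩ := h1
    refine ⟨r, ?_, hr.symm⟩
    apply IdealModule.val_injective I
    rw [IdealModule.val_smul, IdealModule.val_res, hs]
    exact hr.symm
  have hα : ∀ (x : X) (V : X.affineOpens) (hV : V ≤ U x) (t : Γ(ClSub.idealMod I, V.1)),
      α φ t = resR hV (f x) * IdealModule.val I t := by
    intro x V hV t
    obtain ⟨r, hr, hr'⟩ := hgen x V hV t
    rw [hr', hr, α_smul, α_res, hf, map_mul]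
    ring
  -- compatibility
  have hcompat : ∀ (x y : X) (V : X.affineOpens) (hx : V ≤ U x) (hy : V ≤ U y),
      resR hx (f x) = resR hy (f y) := by
    intro x y V hx hy
    have h1 := hα x V hx (res _ hx (s x))
    have h2 := hα y V hy (res _ hx (s x))
    rw [h1, IdealModule.val_res, hs, ← sub_eq_zero, ← sub_mul] at h2
    exact sub_eq_zero.1 (eq_zero_of_mul_res (U x).2 (ha x) hx _ h2)
  have haff : ∀ (W : X.Opens) (z : X), z ∈ W → ∃ V : X.affineOpens, z ∈ V.1 ∧ V.1 ≤ W := by
    intro W z hz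
    obtain ⟨V, hV, hzV, hVW⟩ := exists_isAffineOpen_mem_and_subset hz
    exact ⟨⟨V, hV⟩, hzV, hVW⟩
  obtain ⟨F, hF'⟩ : ∃ F : Γ(X, ⊤), ∀ x, resR (le_top : (U x).1 ≤ ⊤) F = f x := by
    obtain ⟨F, hF, -⟩ := TopCat.Sheaf.existsUnique_gluing' X.sheaf (fun x => (U x).1) ⊤
      (fun x => homOfLE le_top) (fun x _ => TopologicalSpace.Opens.mem_iSup.2 ⟨x, hxU x⟩) f (by
        intro x y
        refine eq_of_cover (U := (U x).1 ⊓ (U y).1) _ _ fun z hz => ?_
        obtain ⟨V, hzV, hVW⟩ := haff _ z hz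
        refine ⟨V.1, hVW, hzV, ?_⟩
        have := hcompat x y V (hVW.trans inf_le_left) (hVW.trans inf_le_right)
        refine (resR_resR (inf_le_left : (U x).1 ⊓ (U y).1 ≤ (U x).1) hVW (f x)).trans ?_
        exact this.trans (resR_resR (inf_le_right : (U x).1 ⊓ (U y).1 ≤ (U y).1) hVW (f y)).symm)
    exact ⟨F, hF⟩
  have hαF : ∀ (V : X.Opens) (t : Γ(ClSub.idealMod I, V)),
      α φ t = resR (le_top : V ≤ ⊤) F * IdealModule.val I t := by
    intro V t
    refine eq_of_cover _ _ fun z hz => ?_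
    obtain ⟨W, hzW, hWV⟩ := haff (V ⊓ (U z).1) z ⟨hz, hxU z⟩
    refine ⟨W.1, hWV.trans inf_le_left, hzW, ?_⟩
    rw [← α_res, map_mul, ← IdealModule.val_res, hα z W (hWV.trans inf_le_right), ← hF' z,
      resR_resR, resR_resR]
  have hreg : F ∈ nonZeroDivisors Γ(X, ⊤) := by
    rw [mem_nonZeroDivisors_iff_right]
    intro g hg
    refine eq_of_cover _ _ fun z _ => ⟨(U z).1, le_top, hxU z, ?_⟩
    rw [map_zero]
    refine eq_zero_of_mul_res (U z).2 (ha z) le_rfl _ ?_
    rw [resR_rfl, ← hs z, ← IdealModule.val_smul, ← IdealModule.val_zero I]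
    congr 1
    apply α_injective φ
    rw [α_smul, hαF, ← mul_assoc, ← map_mul, hg, map_zero, zero_mul]
    rw [α, map_zero, IdealModule.val_zero]
  obtain ⟨G, hG⟩ := (IsArtinianRing.isUnit_of_mem_nonZeroDivisors hreg).exists_right_inv
  refine le_antisymm ?_ hle
  intro A b hb
  obtain ⟨t, ht⟩ := IdealModule.exists_val_eq I A hb
  have h1 : α φ (resR (le_top : A.1 ≤ ⊤) G • t) = b := by
    rw [α_smul, hαF, ht, ← mul_assoc, ← map_mul, mul_comm G, hG, map_one, one_mul]
  rw [← h1]
  exact IdealModule.val_mem J A _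

end K722.EffEq
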