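import Groth.Agent.Divisors.K722.Main84
import Groth.Agent.EGA2.K43.Piece
import Groth.Agent.PerfC.FTExt
import Groth.Agent.Fdesc.QCohStalk

/-!
# Finite type submodules of the degree-`d` part of a graded ideal
-/

set_option autoImplicit false
universe u

open CategoryTheory CategoryTheory.Limits AlgebraicGeometry TopologicalSpace Opposite
open HomogeneousLocalization

noncomputable section

namespace K722.FTSub

open Groth.Agent.Fdesc.LocGen K43.CanMap K43.Piece K722.QuotAlg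

variable {S : Scheme.{u}} {𝒜 : RelProj.QCGrAlg S} (K : IdSys 𝒜) (d : ℕ)

/-- The degree-`d` part of a graded ideal, as a quasi-coherent module. -/
theorem exists_degPart : ∃ (G : S.Modules) (j : G ⟶ 𝒜.toModule), Coh.IsQCoh G ∧ Mono j ∧
    ∀ (U : S.Opens) (hU : IsAffineOpen U) (x : 𝒜.presheaf.obj (op U)),
      (∃ s : Γ(G, U), jv j s = x) ↔ x ∈ 𝒜.deg U hU d ∧ x ∈ K.H U hU := by
  obtain ⟨ℬ, φ, hφ, hs⟩ := K.exists_quot
  let v : piece 𝒜 d ⟶ ℬ.toModule := pieceι 𝒜 d ≫ RelSpec.QCAlg.Hom.toModuleMap φ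
  have hq : Coh.IsQCoh (kernel v) :=
    Groth.Agent.PerfA.QCohSerre.isQCoh_kernel _ (isQCoh_piece 𝒜 d) (K27.QCAlgBasic.isQCoh_toModule ℬ.toQCAlg)
  refine ⟨kernel v, kernel.ι v ≫ pieceι 𝒜 d, hq, inferInstance, fun U hU x => ?_⟩
  have hv : ∀ y : Γ(piece 𝒜 d, U), v.app U y = (φ.hom.app (op U)).hom (jv (pieceι 𝒜 d) y) := fun y => rfl
  have hk : ∀ y : Γ(piece 𝒜 d, U), v.app U y = 0 ↔ jv (pieceι 𝒜 d) y ∈ K.H U hU := by
    intro y
    rw [hv, ← (hs U hU).2]
    exact Iff.rfl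
  constructor
  · rintro ⟨s, rfl⟩
    have h1 : jv (kernel.ι v ≫ pieceι 𝒜 d) s = jv (pieceι 𝒜 d) ((kernel.ι v).app U s) := rfl
    rw [h1]
    refine ⟨pieceι_mem 𝒜 d hU _, ?_⟩
    rw [← hk]
    exact (kernel_exact v U _).2 ⟨s, rfl⟩
  · rintro ⟨h1, h2⟩
    obtain ⟨y, rfl⟩ := exists_pieceι 𝒜 d hU h1
    rw [← hk] at h2
    obtain ⟨s, hs⟩ := (kernel_exact v U y).1 h2
    refine ⟨s, ?_⟩
    have h3 : jv (kernel.ι v ≫ pieceι 𝒜 d) s = jv (pieceι 𝒜 d) ((kernel.ι v).app U s) := rfl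
    rw [h3]
    congr 1

/-- The ideal generated by the sections of a quasi-coherent module landing in one degree. -/
def ofSub {F : S.Modules} (hF : Coh.IsQCoh F) (j : F ⟶ 𝒜.toModule) {d : ℕ}
    (hj : ∀ (U : S.Opens) (hU : IsAffineOpen U) (x : Γ(F, U)), jv j x ∈ 𝒜.deg U hU d) : IdSys 𝒜 where
  H U _ := Ideal.span (Set.range (jv j (U := U)))
  hom U hU := by
    apply Ideal.homogeneous_span
    rintro _ ⟨x, rfl⟩
    exact ⟨d, hj U hU x⟩
  map_res U hU r := by
    apply le_antisymm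
    · rw [Ideal.map_le_iff_le_comap, Ideal.span_le]
      rintro _ ⟨x, rfl⟩
      rw [SetLike.mem_coe, Ideal.mem_comap, ← jv_res]
      exact Ideal.subset_span ⟨_, rfl⟩
    · rw [Ideal.span_le]
      rintro _ ⟨y, rfl⟩
      rw [SetLike.mem_coe]
      obtain ⟨n, m, hm⟩ := Groth.Agent.Fdesc.QCohStalk.exists_map_eq_pow_smul F hU hF r y
      have h1 : jv j (res F (S.basicOpen_le r) m) =
          ((𝒜.str.app (op (S.basicOpen r))).hom ((ores (S.basicOpen_le r) r) ^ n)) * jv j y := by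
        rw [← jv_smul]
        exact congrArg (jv j) hm
      have hu : IsUnit ((𝒜.str.app (op (S.basicOpen r))).hom ((ores (S.basicOpen_le r) r) ^ n)) := by
        rw [map_pow]
        exact ((RingedSpace.isUnit_res_basicOpen _ r : IsUnit (ores (S.basicOpen_le r) r)).map
          (𝒜.str.app (op (S.basicOpen r))).hom).pow n
      rw [jv_res] at h1
      have h2 : (𝒜.presheaf.map (homOfLE (S.basicOpen_le r)).op).hom (jv j m) ∈
          (Ideal.span (Set.range (jv j (U := U)))).map (𝒜.presheaf.map (homOfLE (S.basicOpen_le r)).op).hom :=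
        Ideal.mem_map_of_mem _ (Ideal.subset_span ⟨m, rfl⟩)
      rw [h1] at h2
      exact (Ideal.unit_mul_mem_iff_mem _ hu).1 h2

theorem ofSub_H {F : S.Modules} (hF : Coh.IsQCoh F) (j : F ⟶ 𝒜.toModule) {d : ℕ}
    (hj : ∀ (U : S.Opens) (hU : IsAffineOpen U) (x : Γ(F, U)), jv j x ∈ 𝒜.deg U hU d)
    (U : S.Opens) (hU : IsAffineOpen U) : (ofSub hF j hj).H U hU = Ideal.span (Set.range (jv j (U := U))) := rfl

/-- A section locally in the image of a mono is in the image. -/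
theorem exists_of_locally {F N : S.Modules} (j : F ⟶ N) [Mono j] {U : S.Opens} (s : Γ(N, U))
    (h : ∀ x ∈ U, ∃ (V : S.Opens) (hV : V ≤ U) (t : Γ(F, V)), x ∈ V ∧ j.app V t = res N hV s) :
    ∃ t : Γ(F, U), j.app U t = s := by
  let Q := ShortComplex.mk j (cokernel.π j) (cokernel.condition j)
  have hQ : Q.Exact := ShortComplex.exact_of_g_is_cokernel _ (cokernelIsCokernel j)
  have : Mono Q.f := inferInstanceAs (Mono j)
  have h1 := Groth.Agent.CohqB.FiniteType2.sections_exact Q hQ U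
  refine (h1 s).1 ?_
  choose V hV t hx ht using h
  change (cokernel.π j).app U s = 0
  refine TopCat.Sheaf.eq_of_locally_eq' ⟨(cokernel j).presheaf, (cokernel j).isSheaf⟩
    (fun x : U => V x.1 x.2) U (fun x => homOfLE (hV x.1 x.2)) ?_ _ _ ?_
  · intro x hxU
    exact Opens.mem_iSup.2 ⟨⟨x, hxU⟩, hx x hxU⟩
  · intro x
    change res _ (hV x.1 x.2) ((cokernel.π j).app U s) = res _ (hV x.1 x.2) 0
    rw [map_zero, ← app_res, ← ht x.1 x.2]
    exact (Groth.Agent.CohqB.FiniteType2.sections_exact Q hQ (V x.1 x.2) _).2 ⟨t x.1 x.2, rfl⟩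

end K722.FTSub
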