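import Mathlib.AlgebraicGeometry.ProjectiveSpectrum.Functor
import Mathlib.RingTheory.Localization.Ideal
import Mathlib.RingTheory.GradedAlgebra.Homogeneous.Ideal

/-!
# Ideals of `A_(f)` and homogeneous ideals of `A`

* `num hf J`: the ideal of `A` generated by the numerators `c` with `c / f ^ k ∈ J ⊆ A_(f)`;
* `ext_map_eq`: the extension of `J` to any `A`-algebra over `A_f` is the extension of `num hf J`;
* `mem_of_val`: `num` determines `J`; `mem_num_awayMap`: comparison over `D₊(f g)`.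
-/

set_option autoImplicit false

open HomogeneousLocalization

namespace K722.GrExt

variable {A σ : Type*} [CommRing A] [SetLike σ A] [AddSubgroupClass σ A] {𝒜 : ℕ → σ} [GradedRing 𝒜]

section num

variable {f : A} {d : ℕ} (hf : f ∈ 𝒜 d) (J : Ideal (Away 𝒜 f))

/-- The set of numerators. -/
def numSet : Set A := {c | ∃ (k : ℕ) (hc : c ∈ 𝒜 (k • d)), Away.mk 𝒜 hf k c hc ∈ J}

/-- The ideal generated by the numerators. -/
def num : Ideal A := Ideal.span (numSet hf J)

theorem subset_num {c : A} {k : ℕ} (hc : c ∈ 𝒜 (k • d)) (h : Away.mk 𝒜 hf k c hc ∈ J) : c ∈ num hf J :=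
  Ideal.subset_span ⟨k, hc, h⟩

theorem ext_eq : J.map (algebraMap (Away 𝒜 f) (Localization.Away f)) =
    (num hf J).map (algebraMap A (Localization.Away f)) := by
  apply le_antisymm
  · rw [Ideal.map_le_iff_le_comap]
    intro x hx
    obtain ⟨k, c, hc, rfl⟩ := x.mk_surjective _ hf
    rw [Ideal.mem_comap, HomogeneousLocalization.algebraMap_apply, Away.val_mk]
    have h1 : Localization.mk c (⟨f ^ k, k, rfl⟩ : Submonoid.powers f) =
        Localization.mk 1 (⟨f ^ k, k, rfl⟩ : Submonoid.powers f) * algebraMap A (Localization.Away f) c := by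
      rw [← Localization.mk_one_eq_algebraMap, Localization.mk_mul, one_mul, mul_one]
    rw [h1]
    exact Ideal.mul_mem_left _ _ (Ideal.mem_map_of_mem _ (subset_num hf J hc hx))
  · rw [Ideal.map_le_iff_le_comap, num, Ideal.span_le]
    rintro c ⟨k, hc, h⟩
    rw [SetLike.mem_coe, Ideal.mem_comap]
    have h1 : algebraMap A (Localization.Away f) c =
        algebraMap A (Localization.Away f) (f ^ k) * (Away.mk 𝒜 hf k c hc).val := by
      rw [Away.val_mk, ← Localization.mk_one_eq_algebraMap, ← Localization.mk_one_eq_algebraMap,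
        Localization.mk_mul, one_mul, mul_comm, Localization.mk_eq_mk_iff, Localization.r_iff_exists]
      exact ⟨1, by simp; ring⟩
    rw [h1]
    exact Ideal.mul_mem_left _ _ (Ideal.mem_map_of_mem (algebraMap (Away 𝒜 f) (Localization.Away f)) h)

theorem isHomogeneous_num : (num hf J).IsHomogeneous 𝒜 :=
  Ideal.homogeneous_span 𝒜 _ fun x hx => by
    obtain ⟨k, hc, -⟩ := hx
    exact ⟨_, hc⟩

theorem mk_add {k : ℕ} (x y : A) (hx : x ∈ 𝒜 (k • d)) (hy : y ∈ 𝒜 (k • d)) (hxy : x + y ∈ 𝒜 (k • d)) :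
    Away.mk 𝒜 hf k (x + y) hxy = Away.mk 𝒜 hf k x hx + Away.mk 𝒜 hf k y hy := by
  apply HomogeneousLocalization.val_injective
  rw [val_add, Away.val_mk, Away.val_mk, Away.val_mk, Localization.add_mk_self]

theorem mk_mul {k l : ℕ} (x y : A) (hx : x ∈ 𝒜 (k • d)) (hy : y ∈ 𝒜 (l • d)) (hxy : x * y ∈ 𝒜 ((k + l) • d)) :
    Away.mk 𝒜 hf (k + l) (x * y) hxy = Away.mk 𝒜 hf k x hx * Away.mk 𝒜 hf l y hy := by
  apply HomogeneousLocalization.val_injective
  rw [val_mul, Away.val_mk, Away.val_mk, Away.val_mk, Localization.mk_mul]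
  congr 1
  ext
  exact pow_add f k l

theorem mk_pow_mul (k n : ℕ) (x : A) (hx : x ∈ 𝒜 (n • d)) (hx' : f ^ k * x ∈ 𝒜 ((k + n) • d)) :
    Away.mk 𝒜 hf (k + n) (f ^ k * x) hx' = Away.mk 𝒜 hf n x hx := by
  apply HomogeneousLocalization.val_injective
  rw [Away.val_mk, Away.val_mk, Localization.mk_eq_mk_iff, Localization.r_iff_exists]
  refine ⟨1, ?_⟩
  simp only [OneMemClass.coe_one, one_mul]
  ring

theorem mk_congr {k : ℕ} {x y : A} (hx : x ∈ 𝒜 (k • d)) (hy : y ∈ 𝒜 (k • d)) (h : x = y) :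
    Away.mk 𝒜 hf k x hx = Away.mk 𝒜 hf k y hy := by
  subst h; rfl

theorem mk_eq_zero_of {k : ℕ} {x : A} (hx : x ∈ 𝒜 (k • d)) (h : x = 0) :
    Away.mk 𝒜 hf k x hx = 0 := by
  subst h
  apply HomogeneousLocalization.val_injective
  rw [Away.val_mk, val_zero, Localization.mk_zero]

/-- Elements of `num` of degree a multiple of `d` are numerators. -/
theorem mk_decompose_mem (hd : 0 < d) {y : A} (hy : y ∈ num hf J) (m : ℕ) :
    Away.mk 𝒜 hf m (DirectSum.decompose 𝒜 y (m • d) : A) (SetLike.coe_mem _) ∈ J := by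
  classical
  have key : ∀ y ∈ num hf J, ∀ b : A, Away.mk 𝒜 hf m (DirectSum.decompose 𝒜 (b * y) (m • d) : A)
      (SetLike.coe_mem _) ∈ J := by
    intro y hy
    rw [num] at hy
    induction hy using Submodule.span_induction with
    | mem c hc =>
      obtain ⟨k, hc, h⟩ := hc
      intro b
      by_cases hkm : k ≤ m
      · obtain ⟨l, rfl⟩ := Nat.exists_eq_add_of_le' hkm
        have h1 : (DirectSum.decompose 𝒜 (b * c) ((l + k) • d) : A) =
            (DirectSum.decompose 𝒜 b (l • d) : A) * c := by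
          rw [add_smul]
          exact DirectSum.coe_decompose_mul_add_of_right_mem 𝒜 hc
        rw [mk_congr hf (SetLike.coe_mem _) (by rw [← h1]; exact SetLike.coe_mem _) h1,
          mk_mul hf _ _ (SetLike.coe_mem _) hc]
        exact Ideal.mul_mem_left _ _ h
      · have h1 : (DirectSum.decompose 𝒜 (b * c) (m • d) : A) = 0 := by
          apply DirectSum.coe_decompose_mul_of_right_mem_of_not_le 𝒜 hc
          rw [not_le] at hkm ⊢
          simp only [smul_eq_mul]
          exact Nat.mul_lt_mul_of_pos_right hkm hd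
        rw [mk_eq_zero_of hf _ h1]
        exact zero_mem _
    | zero =>
      intro b
      rw [mk_eq_zero_of hf _ (by simp)]
      exact zero_mem _
    | add x y _ _ hx hy =>
      intro b
      have h1 : (DirectSum.decompose 𝒜 (b * (x + y)) (m • d) : A) =
          (DirectSum.decompose 𝒜 (b * x) (m • d) : A) + (DirectSum.decompose 𝒜 (b * y) (m • d) : A) := by
        rw [mul_add, DirectSum.decompose_add, DirectSum.add_apply]; rfl
      rw [mk_congr hf (SetLike.coe_mem _) (by rw [← h1]; exact SetLike.coe_mem _) h1,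
        mk_add hf _ _ (SetLike.coe_mem _) (SetLike.coe_mem _)]
      exact add_mem (hx b) (hy b)
    | smul a x _ hx =>
      intro b
      have h1 : b * (a • x) = (b * a) * x := by rw [smul_eq_mul, mul_assoc]
      rw [mk_congr hf (SetLike.coe_mem _) (SetLike.coe_mem _)
        (congrArg (fun z => (DirectSum.decompose 𝒜 z (m • d) : A)) h1)]
      exact hx (b * a)
  have := key y hy 1
  rw [mk_congr hf (SetLike.coe_mem _) (SetLike.coe_mem _)
    (congrArg (fun z => (DirectSum.decompose 𝒜 z (m • d) : A)) (one_mul y))] at this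
  exact this

theorem mk_mem_iff (hd : 0 < d) {k : ℕ} {c : A} (hc : c ∈ 𝒜 (k • d)) :
    Away.mk 𝒜 hf k c hc ∈ J ↔ ∃ n, f ^ n * c ∈ num hf J := by
  constructor
  · intro h
    exact ⟨0, by rw [pow_zero, one_mul]; exact subset_num hf J hc h⟩
  · rintro ⟨n, hn⟩
    have h1 := mk_decompose_mem hf J hd hn (n + k)
    have h2 : f ^ n * c ∈ 𝒜 ((n + k) • d) := by
      rw [add_smul]
      exact SetLike.mul_mem_graded (SetLike.pow_mem_graded n hf) hc
    rw [mk_congr hf (SetLike.coe_mem _) h2 (DirectSum.decompose_of_mem_same 𝒜 h2), mk_pow_mul hf n k c hc] at h1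
    exact h1

/-- Extension to any ring receiving `A_f`. -/
theorem ext_map_eq {B : Type*} [CommRing B] (ψ : Localization.Away f →+* B) :
    J.map (ψ.comp (algebraMap (Away 𝒜 f) (Localization.Away f))) =
      (num hf J).map (ψ.comp (algebraMap A (Localization.Away f))) := by
  rw [← Ideal.map_map, ext_eq hf J, Ideal.map_map]

theorem mem_comap_iff (a : A) : algebraMap A (Localization.Away f) a ∈
    (num hf J).map (algebraMap A (Localization.Away f)) ↔ ∃ n, f ^ n * a ∈ num hf J := by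
  rw [IsLocalization.algebraMap_mem_map_algebraMap_iff (Submonoid.powers f)]
  constructor
  · rintro ⟨_, ⟨n, rfl⟩, h⟩
    exact ⟨n, h⟩
  · rintro ⟨n, h⟩
    exact ⟨_, ⟨n, rfl⟩, h⟩

/-- The saturation is homogeneous. -/
theorem decompose_mem {a : A} (h : ∃ n, f ^ n * a ∈ num hf J) (m : ℕ) :
    ∃ n, f ^ n * (DirectSum.decompose 𝒜 a m : A) ∈ num hf J := by
  obtain ⟨n, hn⟩ := h
  refine ⟨n, ?_⟩
  have h1 := isHomogeneous_num hf J (n • d + m) hn
  rwa [DirectSum.coe_decompose_mul_add_of_left_mem 𝒜 (SetLike.pow_mem_graded n hf)] at h1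

end num

section awayMap

variable {f g x : A} {d e : ℕ} (hf : f ∈ 𝒜 d) (hg : g ∈ 𝒜 e) (hx : x = f * g)

theorem exists_comp_awayMap : ∃ ψ : Localization.Away f →+* Localization.Away x,
    ψ.comp (algebraMap A (Localization.Away f)) = algebraMap A (Localization.Away x) ∧
    (algebraMap (Away 𝒜 x) (Localization.Away x)).comp (awayMap 𝒜 hg hx) =
      ψ.comp (algebraMap (Away 𝒜 f) (Localization.Away f)) := by
  have hu : IsUnit (algebraMap A (Localization.Away x) f) :=
    isUnit_of_dvd_unit (map_dvd _ ⟨g, hx⟩) (IsLocalization.Away.algebraMap_isUnit x)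
  refine ⟨Localization.awayLift (algebraMap A (Localization.Away x)) f hu, ?_, ?_⟩
  · exact IsLocalization.Away.lift_comp (S := Localization.Away f) f hu
  · refine RingHom.ext fun a => ?_
    exact val_awayMap (𝒜 := 𝒜) hg hx a

/-- Numerators over `D₊(f g)`, for an ideal extended from `D₊(f)`. -/
theorem num_awayMap (J : Ideal (Away 𝒜 f)) (hxd : x ∈ 𝒜 (d + e)) :
    (num hxd (J.map (awayMap 𝒜 hg hx))).map (algebraMap A (Localization.Away x)) =
      (num hf J).map (algebraMap A (Localization.Away x)) := by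
  obtain ⟨ψ, h1, h2⟩ := exists_comp_awayMap (𝒜 := 𝒜) hg hx
  rw [← ext_eq, Ideal.map_map, h2, ext_map_eq hf, h1]

theorem mem_num_awayMap_iff (J : Ideal (Away 𝒜 f)) (hxd : x ∈ 𝒜 (d + e)) (a : A) :
    (∃ n, x ^ n * a ∈ num hxd (J.map (awayMap 𝒜 hg hx))) ↔ ∃ n, x ^ n * a ∈ num hf J := by
  rw [← mem_comap_iff, num_awayMap hf hg hx J hxd, IsLocalization.algebraMap_mem_map_algebraMap_iff (Submonoid.powers x)]
  constructor
  · rintro ⟨_, ⟨n, rfl⟩, h⟩
    exact ⟨n, h⟩
  · rintro ⟨n, h⟩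
    exact ⟨_, ⟨n, rfl⟩, h⟩

/-- From `D₊(g)` to `D₊(f)`: if `J_f` and `J_g` agree over `D₊(f g)`, an element in the saturation of `num J_g` is, after
multiplication by a power of `g`, in the saturation of `num J_f`. -/
theorem mem_sat_of_mem_sat (hx' : x = g * f) (J : Ideal (Away 𝒜 f)) (K : Ideal (Away 𝒜 g))
    (hJK : J.map (awayMap 𝒜 hg hx) = K.map (awayMap 𝒜 hf hx')) {a : A} (ha : ∃ n, g ^ n * a ∈ num hg K) :
    ∃ m, ∃ n, f ^ n * (g ^ m * a) ∈ num hf J := by
  have hxd : x ∈ 𝒜 (d + e) := by rw [hx]; exact SetLike.mul_mem_graded hf hg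
  have hxd' : x ∈ 𝒜 (e + d) := by rw [hx']; exact SetLike.mul_mem_graded hg hf
  obtain ⟨n, hn⟩ := ha
  have h1 : ∃ n, x ^ n * a ∈ num hg K := by
    refine ⟨n, ?_⟩
    rw [hx, mul_pow, mul_assoc]
    exact Ideal.mul_mem_left _ _ hn
  rw [← mem_num_awayMap_iff hg hf hx' K hxd', ← hJK] at h1
  have h2 : ∃ n, x ^ n * a ∈ num hxd (J.map (awayMap 𝒜 hg hx)) := by
    rw [← mem_comap_iff, ← ext_eq] at h1 ⊢
    exact h1
  rw [mem_num_awayMap_iff hf hg hx J hxd] at h2
  obtain ⟨m, hm⟩ := h2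
  refine ⟨m, m, ?_⟩
  rwa [← mul_assoc, ← mul_pow, ← hx]

end awayMap

section localization

variable {B τ : Type*} [CommRing B] [SetLike τ B] [AddSubgroupClass τ B] {ℬ : ℕ → τ} [GradedRing ℬ]
  (ρ : 𝒜 →+*ᵍ ℬ) {f : A} {d : ℕ} (hf : f ∈ 𝒜 d)

theorem algebraMap_pow_mul_mk (R : Type*) [CommRing R] (t : R) (k : ℕ) (c : R) :
    algebraMap R (Localization.Away t) (t ^ k) * Localization.mk c (⟨t ^ k, k, rfl⟩ : Submonoid.powers t) =
      algebraMap R (Localization.Away t) c := by
  rw [← Localization.mk_one_eq_algebraMap, ← Localization.mk_one_eq_algebraMap,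
    Localization.mk_mul, one_mul, mul_comm, Localization.mk_eq_mk_iff, Localization.r_iff_exists]
  exact ⟨1, by simp; ring⟩

include hf in
theorem exists_comp_map : ∃ ψ : Localization.Away f →+* Localization.Away (ρ f),
    ψ.comp (algebraMap A (Localization.Away f)) =
      (algebraMap B (Localization.Away (ρ f))).comp ρ.toRingHom ∧
    (algebraMap (Away ℬ (ρ f)) (Localization.Away (ρ f))).comp (Away.map ρ f) =
      ψ.comp (algebraMap (Away 𝒜 f) (Localization.Away f)) := by
  have h1 : ∀ a : A, Localization.awayMap ρ.toRingHom f (algebraMap A (Localization.Away f) a) =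
      algebraMap B (Localization.Away (ρ f)) (ρ.toRingHom a) := fun a =>
    IsLocalization.map_eq (M := Submonoid.powers f) (T := Submonoid.powers (ρ.toRingHom f))
      (S := Localization.Away f) (Q := Localization.Away (ρ.toRingHom f)) _ a
  refine ⟨Localization.awayMap ρ.toRingHom f, RingHom.ext h1, ?_⟩
  refine RingHom.ext fun a => ?_
  obtain ⟨k, c, hc, rfl⟩ := a.mk_surjective _ hf
  change (Away.map ρ f (Away.mk 𝒜 hf k c hc)).val =
    Localization.awayMap ρ.toRingHom f (Away.mk 𝒜 hf k c hc).val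
  rw [Away.map_mk, Away.val_mk, Away.val_mk]
  have hu : IsUnit (algebraMap B (Localization.Away (ρ f)) ((ρ f) ^ k)) := by
    rw [map_pow]
    exact (IsLocalization.Away.algebraMap_isUnit (ρ f)).pow k
  refine hu.mul_left_cancel ?_
  have h3 := congrArg (Localization.awayMap ρ.toRingHom f) (algebraMap_pow_mul_mk A f k c)
  rw [map_mul, h1, h1] at h3
  refine (algebraMap_pow_mul_mk B (ρ f) k (ρ c)).trans ?_
  refine h3.symm.trans ?_
  congr 2
  exact map_pow ρ.toRingHom f k

/-- Numerators after a graded homomorphism, for an extended ideal. -/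
theorem num_map (J : Ideal (Away 𝒜 f)) (hf' : ρ f ∈ ℬ d) :
    (num hf' (J.map (Away.map ρ f))).map (algebraMap B (Localization.Away (ρ f))) =
      ((num hf J).map ρ.toRingHom).map (algebraMap B (Localization.Away (ρ f))) := by
  obtain ⟨ψ, h1, h2⟩ := exists_comp_map ρ hf
  rw [← ext_eq, Ideal.map_map, h2, ext_map_eq hf, h1, Ideal.map_map]

theorem mem_num_map_iff (J : Ideal (Away 𝒜 f)) (hf' : ρ f ∈ ℬ d) (b : B) :
    (∃ n, (ρ f) ^ n * b ∈ num hf' (J.map (Away.map ρ f))) ↔ ∃ n, (ρ f) ^ n * b ∈ (num hf J).map ρ.toRingHom := by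
  rw [← mem_comap_iff, num_map ρ hf, IsLocalization.algebraMap_mem_map_algebraMap_iff (Submonoid.powers (ρ f))]
  constructor
  · rintro ⟨_, ⟨n, rfl⟩, h⟩
    exact ⟨n, h⟩
  · rintro ⟨n, h⟩
    exact ⟨_, ⟨n, rfl⟩, h⟩

/-- The image of the saturation lies in the saturation. -/
theorem sat_map (J : Ideal (Away 𝒜 f)) (hf' : ρ f ∈ ℬ d) {a : A} (ha : ∃ n, f ^ n * a ∈ num hf J) :
    ∃ n, (ρ f) ^ n * ρ a ∈ num hf' (J.map (Away.map ρ f)) := by
  rw [mem_num_map_iff ρ hf J hf']
  obtain ⟨n, hn⟩ := ha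
  refine ⟨n, ?_⟩
  have := Ideal.mem_map_of_mem ρ.toRingHom hn
  rw [map_mul, map_pow] at this
  exact this

/-- For a localization at an element `r`: elements of the target whose image lies in the saturation. -/
theorem exists_of_sat_map (J : Ideal (Away 𝒜 f)) (hf' : ρ f ∈ ℬ d) (r : A)
    (hloc : letI := ρ.toRingHom.toAlgebra; IsLocalization.Away r B) {a : A}
    (ha : ∃ n, (ρ f) ^ n * ρ a ∈ num hf' (J.map (Away.map ρ f))) :
    ∃ m n, f ^ n * (r ^ m * a) ∈ num hf J := by
  rw [mem_num_map_iff ρ hf J hf'] at ha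
  obtain ⟨n, hn⟩ := ha
  let _ := ρ.toRingHom.toAlgebra
  have h1 : algebraMap A B (f ^ n * a) ∈ (num hf J).map (algebraMap A B) := by
    have h2 : algebraMap A B (f ^ n * a) = (ρ f) ^ n * ρ a := by
      rw [map_mul, map_pow]; rfl
    rw [h2]
    exact hn
  rw [@IsLocalization.algebraMap_mem_map_algebraMap_iff _ _ (Submonoid.powers r) B _ _ hloc] at h1
  obtain ⟨_, ⟨m, rfl⟩, hm⟩ := h1
  refine ⟨m, n, ?_⟩
  convert hm using 1
  ring

end localization

end K722.GrExt
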