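import Groth.Agent.Divisors.K722.Assemble
import Groth.Agent.Ega2.H270.ProjCover

/-!
# The graded ideal of a closed subscheme of a relative `Proj`
-/

set_option autoImplicit false
universe u

open CategoryTheory CategoryTheory.Limits AlgebraicGeometry TopologicalSpace Opposite
open HomogeneousLocalization
open scoped HomogeneousIdeal

noncomputable section

namespace K722.IdealOf

open K42.DomQ K42.DomMap K42.DomHom K722.QuotAlg K722.JSpec K722.GrFam

section cov

variable {A σ : Type u} [CommRing A] [SetLike σ A] [AddSubgroupClass σ A] {𝒢 : ℕ → σ} [GradedRing 𝒢]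

theorem awayι_congr {n m : ℕ} (h : n = m) {x : A} (hx : x ∈ 𝒢 n) (hx' : x ∈ 𝒢 m) (hn : 0 < n) (hm : 0 < m) :
    Proj.awayι 𝒢 x hx hn = Proj.awayι 𝒢 x hx' hm := by
  subst h; rfl

/-- A finite cover of a quasi-compact `Proj`. -/
theorem exists_cov (h : CompactSpace (Proj 𝒢)) : ∃ (n : ℕ) (C : Cov 𝒢 (Fin n)), ∀ x : Proj 𝒢, ∃ i, C.F i ∉ x.asHomogeneousIdeal := by
  classical
  have h1 : ∀ x : Proj 𝒢, ∃ (d : ℕ) (f : A), 0 < d ∧ f ∈ 𝒢 d ∧ f ∉ x.asHomogeneousIdeal := fun x => by
    obtain ⟨d, hd, f, hf, hx⟩ := exists_notMem (𝒜 := 𝒢) x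
    exact ⟨d, f, hd, hf, hx⟩
  choose D F hD hF hx using h1
  obtain ⟨t, ht⟩ := isCompact_univ.elim_finite_subcover (fun x : Proj 𝒢 => (Proj.basicOpen 𝒢 (F x) : Set (Proj 𝒢)))
    (fun x => (Proj.basicOpen 𝒢 (F x)).2) (fun x _ => Set.mem_iUnion.2 ⟨x, hx x⟩)
  let e := t.equivFin.symm
  have hcov : ∀ x : Proj 𝒢, ∃ i : Fin t.card, F (e i).1 ∉ x.asHomogeneousIdeal := by
    intro x
    obtain ⟨y, hy, hxy⟩ := Set.mem_iUnion₂.1 (ht (Set.mem_univ x))
    exact ⟨e.symm ⟨y, hy⟩, by rw [Equiv.apply_symm_apply]; exact hxy⟩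
  refine ⟨t.card, ⟨fun i => D (e i).1, fun i => F (e i).1, fun i => hD _, fun i => hF _, ?_⟩, hcov⟩
  intro d g hd hg
  have h2 := (Groth.Agent.Ega2.H270.ProjCover.iSup_basicOpen_eq_top_iff 𝒢 (fun i => F (e i).1)
    (fun i => ⟨_, hF (e i).1⟩)).1 (top_le_iff.1 fun x _ => by
      obtain ⟨i, hi⟩ := hcov x
      exact Opens.mem_iSup.2 ⟨i, hi⟩)
  exact h2 (HomogeneousIdeal.mem_irrelevant_of_mem _ hd hg)

/-- Powers of the members of a cover. -/
def _root_.K722.GrFam.Cov.pow {ι : Type*} (C : Cov 𝒢 ι) (m : ι → ℕ) (hm : ∀ i, 0 < m i) : Cov 𝒢 ι where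
  D i := m i * C.D i
  F i := C.F i ^ m i
  hD i := Nat.mul_pos (hm i) (C.hD i)
  hF i := SetLike.pow_mem_graded (m i) (C.hF i)
  cov e g he hg := by
    have h3 : (Ideal.span (Set.range C.F)) ≤ (Ideal.span (Set.range fun i => C.F i ^ m i)).radical := by
      rw [Ideal.span_le]
      rintro _ ⟨i, rfl⟩
      exact ⟨m i, Ideal.subset_span ⟨i, rfl⟩⟩
    have h4 := Ideal.radical_mono h3 (C.cov e g he hg)
    rwa [Ideal.radical_idem] at h4

end cov

variable {S P : Scheme.{u}} {𝒜 : RelProj.QCGrAlg S} {p : P ⟶ S}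
  {chart : ∀ (U : S.Opens) (hU : IsAffineOpen U), (((p ⁻¹ᵁ U : P.Opens) : Scheme.{u}) ≅ Proj (𝒜.deg U hU))}
  (hP : RelProj.IsRelProj 𝒜 p chart) (I : P.IdealSheafData)

variable (p chart) in
/-- The family of ideals of the `A_(f)` defined by an ideal sheaf. -/
def fam (U : S.Opens) (hU : IsAffineOpen U) : Fam (𝒜.deg U hU) where
  J d f hd hf := jof I (aff p chart U hU hd f hf)
  compat d f hd hf e g he hg x hx hx' := by
    have h1 : jof I (Spec.map (CommRingCat.ofHom (awayMap (𝒜.deg U hU) hg hx)) ≫ aff p chart U hU hd f hf) =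
      (jof I (aff p chart U hU hd f hf)).map (awayMap (𝒜.deg U hU) hg hx) := jof_comp I _ _
    have h2 : jof I (Spec.map (CommRingCat.ofHom (awayMap (𝒜.deg U hU) hf hx')) ≫ aff p chart U hU he g hg) =
      (jof I (aff p chart U hU he g hg)).map (awayMap (𝒜.deg U hU) hf hx') := jof_comp I _ _
    rw [← h1, ← h2]
    refine jof_congr I ?_
    rw [aff, aff, ← Category.assoc, ← Category.assoc]
    congr 1
    rw [Proj.SpecMap_awayMap_awayι (𝒜.deg U hU) hf hd hg hx, Proj.SpecMap_awayMap_awayι (𝒜.deg U hU) hg he hf hx']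
    exact awayι_congr (Nat.add_comm d e) _ _ _ _

include chart in
theorem compactSpace_proj [QuasiCompact p] (U : S.Opens) (hU : IsAffineOpen U) : CompactSpace (Proj (𝒜.deg U hU)) := by
  have h1 : IsCompact ((p ⁻¹ᵁ U : P.Opens) : Set P) := p.isCompact_preimage hU.isCompact
  have h2 : CompactSpace ((p ⁻¹ᵁ U : P.Opens) : Scheme.{u}) := isCompact_iff_compactSpace.mp h1
  exact (chart U hU).hom.homeomorph.compactSpace

include hP in
theorem aff_res (U : S.Opens) (hU : IsAffineOpen U) (r : Γ(S, U)) {d : ℕ} (hd : 0 < d) (f : 𝒜.presheaf.obj (op U))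
    (hf : f ∈ 𝒜.deg U hU d) :
    Spec.map (CommRingCat.ofHom (Away.map (𝒜.res hU (hU.basicOpen r) (S.basicOpen_le r)) f)) ≫ aff p chart U hU hd f hf =
      aff p chart (S.basicOpen r) (hU.basicOpen r) hd (𝒜.res hU (hU.basicOpen r) (S.basicOpen_le r) f)
        ((𝒜.res hU (hU.basicOpen r) (S.basicOpen_le r)).map_mem hf) := by
  have h1 := Proj.awayι_comp_map (𝒜.res hU (hU.basicOpen r) (S.basicOpen_le r)) (𝒜.irrelevant_le_map U hU r) hd f hf
  rw [aff, aff, ← RelProj.map_res_emb hP U hU r, ← Category.assoc, ← Category.assoc]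
  congr 1
  exact h1.symm

include hP in
/-- The graded ideal of an ideal sheaf. -/
def idSys [QuasiCompact p] : IdSys 𝒜 where
  H U hU := (fam p chart I U hU).I
  hom U hU := (fam p chart I U hU).isHomogeneous_I
  map_res U hU r := by
    obtain ⟨n, C, -⟩ := exists_cov (compactSpace_proj (p := p) (chart := chart) U hU)
    refine Fam.I_map (fam p chart I U hU) (𝒜.res hU (hU.basicOpen r) (S.basicOpen_le r))
      (fam p chart I (S.basicOpen r) (hU.basicOpen r)) C ?_ ?_ ((𝒜.str.app (op U)).hom r) ?_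
    · intro e g he hg
      have h1 := 𝒜.irrelevant_le_map U hU r (HomogeneousIdeal.mem_irrelevant_of_mem _ he hg)
      have h2 : (𝒜.deg U hU)₊.toIdeal ≤ (Ideal.span (Set.range C.F)).radical := by
        rw [HomogeneousIdeal.toIdeal_irrelevant_le]
        intro e hd g hg
        exact C.cov e g hd hg
      have h3 : ((𝒜.deg U hU)₊.toIdeal).map (𝒜.res hU (hU.basicOpen r) (S.basicOpen_le r)).toRingHom ≤
          (Ideal.span (Set.range fun i => (𝒜.res hU (hU.basicOpen r) (S.basicOpen_le r)) (C.F i))).radical := by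
        refine (Ideal.map_mono h2).trans ?_
        refine (Ideal.map_radical_le _).trans ?_
        refine Ideal.radical_mono ?_
        rw [Ideal.map_span, ← Set.range_comp]
        exact le_rfl
      exact h3 h1
    · intro d f hd hf
      have h1 := jof_comp I (CommRingCat.ofHom (Away.map (𝒜.res hU (hU.basicOpen r) (S.basicOpen_le r)) f))
        (aff p chart U hU hd f hf)
      rw [aff_res hP U hU r hd f hf] at h1
      exact h1.symm
    · exact 𝒜.isQC U hU r

end K722.IdealOf
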