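import Groth.Agent.Divisors.K722.IdealOf

/-!
# Closed subschemes of a relative `Proj` are relative `Proj`s of quotients
-/

set_option autoImplicit false
universe u

open CategoryTheory CategoryTheory.Limits AlgebraicGeometry TopologicalSpace Opposite
open HomogeneousLocalization

noncomputable section

namespace K722.Main84

open K42.DomQ K42.DomMap K42.DomHom K722.QuotAlg K722.JSpec K722.GrFam K722.IdealOf

variable {S P : Scheme.{u}} {𝒜 : RelProj.QCGrAlg S} {p : P ⟶ S}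
  {chart : ∀ (U : S.Opens) (hU : IsAffineOpen U), (((p ⁻¹ᵁ U : P.Opens) : Scheme.{u}) ≅ Proj (𝒜.deg U hU))}
  (hP : RelProj.IsRelProj 𝒜 p chart)

theorem exists_std (x : P) : ∃ (U : S.Opens) (hU : IsAffineOpen U) (d : ℕ) (_ : 0 < d)
    (f : 𝒜.presheaf.obj (op U)) (_ : f ∈ 𝒜.deg U hU d), x ∈ std p chart U hU f := by
  obtain ⟨U, hU, hx, -⟩ := exists_isAffineOpen_mem_and_subset (x := p.base x) (U := ⊤) trivial
  obtain ⟨d, hd, f, hf, h⟩ := exists_mem_std p chart U hU x hx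
  exact ⟨U, hU, d, hd, f, hf, h⟩

theorem exists_gradedQuotient [QuasiCompact p] {Z : Scheme.{u}} (i : Z ⟶ P) [IsClosedImmersion i] :
    ∃ (ℬ : RelProj.QCGrAlg S) (φ : 𝒜.toQCAlg ⟶ ℬ.toQCAlg) (hφ : RelProj.IsGradedHom φ) (PB : Scheme.{u})
      (pB : PB ⟶ S) (chartB : ∀ (U : S.Opens) (hU : IsAffineOpen U), (((pB ⁻¹ᵁ U : PB.Opens) : Scheme.{u}) ≅ Proj (ℬ.deg U hU)))
      (h : PB ⟶ P) (e : PB ≅ Z),
      (∀ (U : S.Opens) (hU : IsAffineOpen U), Function.Surjective (φ.hom.app (op U)).hom ∧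
        RingHom.ker (φ.hom.app (op U)).hom = (idSys hP i.ker).H U hU) ∧
        RelProj.IsRelProj ℬ pB chartB ∧ RelProj.IsProjQMap (RelProj.QGrHom.ofHom φ hφ) p chart pB chartB h ∧
        e.hom ≫ i = h := by
  refine K722.Assemble.exists_quot_iso hP i (idSys hP i.ker) fun x => ?_
  obtain ⟨U, hU, d, hd, f, hf, hx⟩ := exists_std (p := p) (chart := chart) x
  obtain ⟨n, C, -⟩ := exists_cov (compactSpace_proj (p := p) (chart := chart) U hU)
  exact ⟨U, hU, d, hd, f, hf, hx, fun k c hc => (fam p chart i.ker U hU).mk_mem_iff_exists C hd hf hc⟩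

end K722.Main84
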