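import Groth.Agent.Divisors.K722.FTSub

/-!
# Closed subschemes of finite presentation of a relative `Proj`
-/

set_option autoImplicit false
universe u

open CategoryTheory CategoryTheory.Limits AlgebraicGeometry TopologicalSpace Opposite
open HomogeneousLocalization

noncomputable section

namespace K722.Main85

open Groth.Agent.Fdesc.LocGen K43.CanMap K43.Piece
open K42.DomQ K42.DomMap K42.DomHom K722.QuotAlg K722.JSpec K722.GrFam K722.IdealOf K722.Main84 K722.FTSub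
open K722.GrExt

variable {S P : Scheme.{u}} {𝒜 : RelProj.QCGrAlg S} {p : P ⟶ S}
  {chart : ∀ (U : S.Opens) (hU : IsAffineOpen U), (((p ⁻¹ᵁ U : P.Opens) : Scheme.{u}) ≅ Proj (𝒜.deg U hU))}
  (hP : RelProj.IsRelProj 𝒜 p chart)

theorem exists_affine_cover (S : Scheme.{u}) [CompactSpace S] : ∃ (n : ℕ) (V : Fin n → S.Opens),
    (∀ l, IsAffineOpen (V l)) ∧ ∀ s : S, ∃ l, s ∈ V l := by
  classical
  have h : ∀ s : S, ∃ V : S.Opens, IsAffineOpen V ∧ s ∈ V := fun s => by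
    obtain ⟨U, hU, hx, -⟩ := exists_isAffineOpen_mem_and_subset (x := s) (U := ⊤) trivial
    exact ⟨U, hU, hx⟩
  choose V hV hs using h
  obtain ⟨t, ht⟩ := isCompact_univ.elim_finite_subcover (fun x : S => (V x : Set S))
    (fun x => (V x).2) (fun x _ => Set.mem_iUnion.2 ⟨x, hs x⟩)
  let e := t.equivFin.symm
  refine ⟨t.card, fun i => V (e i).1, fun i => hV _, fun s => ?_⟩
  obtain ⟨y, hy, hxy⟩ := Set.mem_iUnion₂.1 (ht (Set.mem_univ s))
  refine ⟨e.symm ⟨y, hy⟩, ?_⟩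
  change s ∈ V (e (e.symm ⟨y, hy⟩)).1
  rw [Equiv.apply_symm_apply]
  exact hxy

theorem pow_mul_eq_of_mk_eq {A σ : Type u} [CommRing A] [SetLike σ A] [AddSubgroupClass σ A] {ℬ : ℕ → σ} [GradedRing ℬ]
    {f : A} {d : ℕ} (hf : f ∈ ℬ d) (k : ℕ) (c : A) (hc : c ∈ ℬ (k • d)) (l : ℕ) (c' : A) (hc' : c' ∈ ℬ (l • d))
    (h : Away.mk ℬ hf k c hc = Away.mk ℬ hf l c' hc') : ∃ n, f ^ n * (f ^ l * c) = f ^ n * (f ^ k * c') := by
  have h1 := congrArg HomogeneousLocalization.val h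
  rw [Away.val_mk, Away.val_mk, Localization.mk_eq_mk_iff, Localization.r_iff_exists] at h1
  obtain ⟨⟨_, n, rfl⟩, hn⟩ := h1
  exact ⟨n, hn⟩

include hP in
theorem exists_sections [CompactSpace S] [QuasiCompact p] {Z : Scheme.{u}} (i : Z ⟶ P) [IsClosedImmersion i]
    [LocallyOfFinitePresentation i] :
    ∃ e : ℕ, 0 < e ∧ ∃ k₀ : ℕ, ∀ k, k₀ ≤ k → ∃ (ι : Type u) (_ : Finite ι) (U : ι → S.Opens)
      (hU : ∀ l, IsAffineOpen (U l)) (a : ∀ l, 𝒜.presheaf.obj (op (U l))),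
      (∀ l, a l ∈ 𝒜.deg (U l) (hU l) (k * e) ∧ a l ∈ (idSys hP i.ker).H (U l) (hU l)) ∧
      ∀ (K : IdSys 𝒜), (∀ (U : S.Opens) (hU : IsAffineOpen U), K.H U hU ≤ (idSys hP i.ker).H U hU) →
        (∀ l, a l ∈ K.H (U l) (hU l)) →
        ∀ x : P, ∃ (U : S.Opens) (hU : IsAffineOpen U) (d : ℕ) (hd : 0 < d) (f : 𝒜.presheaf.obj (op U))
          (hf : f ∈ 𝒜.deg U hU d), x ∈ std p chart U hU f ∧ ∀ (k : ℕ) (c : 𝒜.presheaf.obj (op U))
            (hc : c ∈ 𝒜.deg U hU (k • d)),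
            Away.mk (𝒜.deg U hU) hf k c hc ∈ (jof i.ker (aff p chart U hU hd f hf) : Ideal (Away (𝒜.deg U hU) f)) ↔
              ∃ n, f ^ n * c ∈ K.H U hU := by
  classical
  obtain ⟨N, V, hV, hcov⟩ := exists_affine_cover S
  choose n C hC using fun l => exists_cov (compactSpace_proj (p := p) (chart := chart) (V l) (hV l))
  let e : ℕ := ∏ l, ∏ j, (C l).D j
  have he : 0 < e := Finset.prod_pos fun l _ => Finset.prod_pos fun j _ => (C l).hD j
  have hdvd : ∀ l j, (C l).D j ∣ e := fun l j =>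
    (Finset.dvd_prod_of_mem (fun j => (C l).D j) (Finset.mem_univ j)).trans
      (Finset.dvd_prod_of_mem (fun l => ∏ j, (C l).D j) (Finset.mem_univ l))
  let C' : ∀ l, Cov (𝒜.deg (V l) (hV l)) (Fin (n l)) := fun l => (C l).pow (fun j => e / (C l).D j)
    (fun j => Nat.div_pos (Nat.le_of_dvd he (hdvd l j)) ((C l).hD j))
  have hC'e : ∀ l j, (C' l).D j = e := fun l j => Nat.div_mul_cancel (hdvd l j)
  have hfin := fun l => (fam p chart i.ker (V l) (hV l)).exists_finset (C' l) (hC'e l) (fun j => jof_fg i _)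
  choose k₀ hk₀ using hfin
  refine ⟨e, he, Finset.univ.sup k₀, fun k hk => ?_⟩
  have hT := fun l => hk₀ l k ((Finset.le_sup (Finset.mem_univ l)).trans hk)
  choose T hTI hTd hTJ using hT
  refine ⟨ULift.{u} (Σ l, T l), inferInstance, fun s => V s.down.1, fun s => hV _, fun s => s.down.2.1, ?_, ?_⟩
  · rintro ⟨⟨l, a, ha⟩⟩
    exact ⟨by simpa using hTd l a ha, hTI l ha⟩
  · intro K hK ha x
    obtain ⟨l, hl⟩ := hcov (p.base x)
    obtain ⟨z, rfl⟩ := exists_emb_eq p chart (V l) (hV l) x hl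
    obtain ⟨j, hj⟩ := hC l z
    have hj' : (C' l).F j ∉ z.asHomogeneousIdeal := fun h => hj (z.isPrime.mem_of_pow_mem _ h)
    refine ⟨V l, hV l, (C' l).D j, (C' l).hD j, (C' l).F j, (C' l).hF j, (emb_mem_std_iff (V l) (hV l) _ z).2 hj', ?_⟩
    intro m c hc
    constructor
    · intro h
      obtain ⟨l', c', hc', hcH, hcc⟩ := hTJ l j (K.H (V l) (hV l)) (fun a hat => ha ⟨⟨l, a, hat⟩⟩) _ h
      obtain ⟨q, hq⟩ := pow_mul_eq_of_mk_eq ((C' l).hF j) m c hc l' c' hc' hcc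
      refine ⟨q + l', ?_⟩
      rw [pow_add, mul_assoc, hq]
      exact Ideal.mul_mem_left _ _ (Ideal.mul_mem_left _ _ hcH)
    · rintro ⟨q, hq⟩
      exact ((fam p chart i.ker (V l) (hV l)).mk_mem_iff_exists (C' l) ((C' l).hD j) ((C' l).hF j) hc).2
        ⟨q, hK _ _ hq⟩

/-- The common conclusion of the two statements, with an arbitrary finite family of extra sections. -/
theorem exists_main [CompactSpace S] [QuasiSeparatedSpace S] [QuasiCompact p] {Z : Scheme.{u}} (i : Z ⟶ P)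
    [IsClosedImmersion i] [LocallyOfFinitePresentation i] :
    ∃ d : ℕ, 0 < d ∧ ∀ (κ : Type u) (_ : Finite κ) (W : κ → S.Opens) (hW : ∀ l, IsAffineOpen (W l))
      (b : ∀ l, 𝒜.presheaf.obj (op (W l))),
      (∀ l, b l ∈ 𝒜.deg (W l) (hW l) d ∧ b l ∈ (idSys hP i.ker).H (W l) (hW l)) →
      ∃ (F : S.Modules) (_ : Coh.IsQCoh F) (_ : CohB1.IsFT F) (ι : F ⟶ 𝒜.toModule) (_ : Mono ι)
      (_ : ∀ l, ∃ t : Γ(F, W l), jv ι t = b l)
      (_ : ∀ (U : S.Opens) (hU : IsAffineOpen U) (x : Γ(F, U)), jv ι x ∈ 𝒜.deg U hU d)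
      (ℬ : RelProj.QCGrAlg S) (φ : 𝒜.toQCAlg ⟶ ℬ.toQCAlg) (hφ : RelProj.IsGradedHom φ) (PB : Scheme.{u})
      (pB : PB ⟶ S) (chartB : ∀ (U : S.Opens) (hU : IsAffineOpen U), (((pB ⁻¹ᵁ U : PB.Opens) : Scheme.{u}) ≅ Proj (ℬ.deg U hU)))
      (h : PB ⟶ P) (e : PB ≅ Z),
      (∀ (U : S.Opens), IsAffineOpen U → Function.Surjective (φ.hom.app (op U)).hom ∧
          RingHom.ker (φ.hom.app (op U)).hom = (Ideal.span (Set.range (jv ι (U := U))) : Ideal (𝒜.presheaf.obj (op U)))) ∧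
        RelProj.IsRelProj ℬ pB chartB ∧ RelProj.IsProjQMap (RelProj.QGrHom.ofHom φ hφ) p chart pB chartB h ∧
        e.hom ≫ i = h := by
  classical
  obtain ⟨e, he, k₀, hk⟩ := exists_sections hP i
  obtain ⟨ι, _, U, hU, a, ha, hK⟩ := hk (k₀ + 1) (Nat.le_succ _)
  refine ⟨(k₀ + 1) * e, Nat.mul_pos (Nat.succ_pos _) he, fun κ _ W hW b hb => ?_⟩
  obtain ⟨G, j, hG, hj, hGj⟩ := exists_degPart (idSys hP i.ker) ((k₀ + 1) * e)
  choose sa hsa using fun l => (hGj (U l) (hU l) (a l)).2 (ha l)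
  choose sb hsb using fun l => (hGj (W l) (hW l) (b l)).2 (hb l)
  cases nonempty_fintype ι
  cases nonempty_fintype κ
  obtain ⟨M, m, hM, hMft, hm, hs⟩ := Groth.Agent.PerfC.FTExt.exists_isFT_mono_sections G hG
    (Finset.univ : Finset (ι ⊕ κ)) (fun l => Sum.elim U W l)
    (fun l _ => by rcases l with l | l; exacts [(hU l).isCompact, (hW l).isCompact])
    (fun l => by rcases l with l | l; exacts [sa l, sb l])
  have hmj : Mono (m ≫ j) := mono_comp m j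
  have hdeg : ∀ (U : S.Opens) (hU : IsAffineOpen U) (x : Γ(M, U)), jv (m ≫ j) x ∈ 𝒜.deg U hU ((k₀ + 1) * e) :=
    fun U hU x => ((hGj U hU _).1 ⟨m.app U x, rfl⟩).1
  let K := ofSub hM (m ≫ j) hdeg
  have hle : ∀ (U : S.Opens) (hU : IsAffineOpen U), K.H U hU ≤ (idSys hP i.ker).H U hU := by
    intro U hU
    change Ideal.span _ ≤ _
    rw [Ideal.span_le]
    rintro _ ⟨x, rfl⟩
    exact ((hGj U hU _).1 ⟨m.app U x, rfl⟩).2
  have hKa : ∀ l, a l ∈ K.H (U l) (hU l) := by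
    intro l
    obtain ⟨t, ht⟩ := hs (Sum.inl l) (Finset.mem_univ _)
    refine Ideal.subset_span ⟨t, ?_⟩
    rw [← hsa l]
    exact congrArg (jv j) ht
  obtain ⟨ℬ, φ, hφ, PB, pB, chartB, h, e', h1, h2, h3, h4⟩ :=
    K722.Assemble.exists_quot_iso hP i K (hK K hle hKa)
  refine ⟨M, hM, hMft, m ≫ j, hmj, fun l => ?_, hdeg, ℬ, φ, hφ, PB, pB, chartB, h, e', fun U hU => h1 U hU, h2, h3, h4⟩
  obtain ⟨t, ht⟩ := hs (Sum.inr l) (Finset.mem_univ _)
  refine ⟨t, ?_⟩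
  rw [← hsb l]
  exact congrArg (jv j) ht

end K722.Main85
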