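import Groth.Agent.Divisors.K722.TwistSec
import Groth.Agent.CohqA.FinSec
import Groth.Agent.S8259
import Groth.Agent.S8285
import Groth.Agent.EGA2.K35.RelProjFT
import Groth.Agent.EGA2.K42.DomMap

/-!
# The relative `Proj` of a finitely presented graded algebra (S12687)
-/

set_option autoImplicit false
universe u

open CategoryTheory CategoryTheory.Limits AlgebraicGeometry TopologicalSpace Opposite
open scoped HomogeneousIdeal

noncomputable section

namespace K722.Main87

open K722.DehFP K722.TwistSec K42.DomMap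

variable {S P : Scheme.{u}} {𝒜 : RelProj.QCGrAlg S} {p : P ⟶ S}
  {chart : ∀ (U : S.Opens) (hU : IsAffineOpen U), (((p ⁻¹ᵁ U : P.Opens) : Scheme.{u}) ≅ Proj (𝒜.deg U hU))}
  (hP : RelProj.IsRelProj 𝒜 p chart)

theorem emb_preimage_std (U : S.Opens) (hU : IsAffineOpen U) (f : 𝒜.presheaf.obj (op U)) :
    RelProj.emb p chart U hU ⁻¹ᵁ std p chart U hU f = Proj.basicOpen (𝒜.deg U hU) f :=
  (RelProj.emb p chart U hU).preimage_image_eq (Proj.basicOpen (𝒜.deg U hU) f)

include hP in
theorem main (hfp : ∀ (U : S.Opens), IsAffineOpen U → RingHom.FinitePresentation (𝒜.str.app (op U)).hom) :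
    (LocallyOfFinitePresentation p ∧ QuasiCompact p ∧ QuasiSeparated p) ∧
      ∀ (d : ℤ) (Od : P.Modules)
        (lam : ∀ (U : S.Opens) (hU : IsAffineOpen U),
          Od ⟶ (Scheme.Modules.pushforward (RelProj.emb p chart U hU)).obj (GrTwist.twist (𝒜.deg U hU) d)),
        RelProj.IsRelTwist 𝒜 p chart d Od lam → CohB1.IsFP Od := by
  have hft : ∀ (U : S.Opens) (_ : IsAffineOpen U), (𝒜.str.app (op U)).hom.FiniteType := fun U hU =>
    RingHom.FiniteType.of_finitePresentation (hfp U hU)
  have hsep : IsSeparated p := Groth.Agent.S8259.result 𝒜 p chart hP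
  refine ⟨⟨?_, (K35.RelProjFT.finiteType_of_finiteType hP hft).2, inferInstance⟩, ?_⟩
  · exact K35.RelProjBasic.of_charts hP @LocallyOfFinitePresentation fun U hU =>
      lofp (𝒜.strZero U hU).hom (hfp U hU)
  · intro n Od lam hL
    have hq := Groth.Agent.S8285.result 𝒜 p chart hP n Od lam hL
    refine Groth.Agent.CohqA.FinSec.isFP_of_finitePresentation hq fun x => ?_
    obtain ⟨U, hU, y, hy⟩ := K35.RelProjBasic.exists_emb (chart := chart) x
    obtain ⟨d, hd, f, hf, hx⟩ := exists_mem_std p chart U hU x (by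
      rw [← K35.RelProjBasic.opensRange_emb (chart := chart) U hU, ← hy]
      exact ⟨y, rfl⟩)
    refine ⟨std p chart U hU f, isAffineOpen_std U hU hd f hf, hx, ?_⟩
    have h1 := fp_sections (𝒜.strZero U hU).hom (hfp U hU) hd hf n
    have h2 : Module.FinitePresentation Γ(Proj (𝒜.deg U hU), RelProj.emb p chart U hU ⁻¹ᵁ std p chart U hU f)
        Γ(GrTwist.twist (𝒜.deg U hU) n, RelProj.emb p chart U hU ⁻¹ᵁ std p chart U hU f) := by
      rw [emb_preimage_std]
      exact h1
    have h3 : IsIso ((RelProj.emb p chart U hU).app (std p chart U hU f)) := by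
      refine (RelProj.emb p chart U hU).isIso_app _ ?_
      rw [K35.RelProjBasic.opensRange_emb]
      exact std_le U hU f
    refine fp_of_equiv' (D := Γ(Proj (𝒜.deg U hU), RelProj.emb p chart U hU ⁻¹ᵁ std p chart U hU f))
      (M := Γ(GrTwist.twist (𝒜.deg U hU) n, RelProj.emb p chart U hU ⁻¹ᵁ std p chart U hU f))
      ((RelProj.emb p chart U hU).app (std p chart U hU f)).hom (ConcreteCategory.bijective_of_isIso _)
      ((lam U hU).app (std p chart U hU f)).hom (hL.bijective U hU _ (std_le U hU f)) fun r x => ?_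
    exact (lam U hU).app_smul r x

end K722.Main87
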