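import Groth.Agent.Divisors.K722.Main85

/-!
# Closed subschemes away from an open of the base
-/

set_option autoImplicit false
universe u

open CategoryTheory CategoryTheory.Limits AlgebraicGeometry TopologicalSpace Opposite
open HomogeneousLocalization

noncomputable section

namespace K722.Main90

open Groth.Agent.Fdesc.LocGen K43.CanMap K43.Piece
open K42.DomQ K42.DomMap K42.DomHom K722.QuotAlg K722.JSpec K722.GrFam K722.IdealOf K722.Main84 K722.FTSub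
open K722.GrExt K722.Main85

variable {S P : Scheme.{u}} {𝒜 : RelProj.QCGrAlg S} {p : P ⟶ S}
  {chart : ∀ (U : S.Opens) (hU : IsAffineOpen U), (((p ⁻¹ᵁ U : P.Opens) : Scheme.{u}) ≅ Proj (𝒜.deg U hU))}
  (hP : RelProj.IsRelProj 𝒜 p chart)

theorem jof_eq_top {Z : Scheme.{u}} (i : Z ⟶ P) [IsClosedImmersion i] {R : CommRingCat.{u}} (t : Spec R ⟶ P)
    (h : Disjoint (Set.range t.base) (Set.range i.base)) : jof i.ker t = ⊤ := by
  have hemp : IsEmpty ((pullback t i : Scheme.{u}) : Type u) := by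
    refine ⟨fun z => ?_⟩
    refine Set.disjoint_left.1 h ⟨(pullback.fst t i).base z, rfl⟩ ⟨(pullback.snd t i).base z, ?_⟩
    have := congrArg (fun q => q.base z) (pullback.condition (f := t) (g := i))
    exact this.symm
  rw [jof, ← Scheme.IdealSheafData.ker_fst_of_isClosedImmersion, Scheme.ker_eq_top_of_isEmpty]
  rw [Ideal.eq_top_iff_one]
  have h1 : (Scheme.ΓSpecIso R).hom.hom 1 ∈ Ideal.map (Scheme.ΓSpecIso R).hom.hom
    ((⊤ : (Spec R).IdealSheafData).ideal ⟨⊤, isAffineOpen_top _⟩) := Ideal.mem_map_of_mem _ trivial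
  rwa [map_one] at h1

include hP in
theorem idSys_eq_top [QuasiCompact p] {Z : Scheme.{u}} (i : Z ⟶ P) [IsClosedImmersion i] {U : S.Opens}
    (hUZ : Disjoint (U : Set S) (Set.range (i ≫ p).base)) {W : S.Opens} (hW : IsAffineOpen W) (hWU : W ≤ U) :
    (idSys hP i.ker).H W hW = ⊤ := by
  rw [Ideal.eq_top_iff_one]
  change (1 : 𝒜.presheaf.obj (op W)) ∈ (fam p chart i.ker W hW).I
  intro d f hd hf
  have h1 : (fam p chart i.ker W hW).J d f hd hf = ⊤ := by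
    refine jof_eq_top i _ ?_
    rw [Set.disjoint_left]
    rintro _ ⟨y, rfl⟩ ⟨z, hz⟩
    refine (Set.disjoint_left.1 hUZ) (?_ : p.base (i.base z) ∈ (U : Set S)) ⟨z, rfl⟩
    rw [hz]
    apply hWU
    have h2 : (aff p chart W hW hd f hf).base y ∈ (aff p chart W hW hd f hf).opensRange := ⟨y, rfl⟩
    rw [opensRange_aff] at h2
    exact std_le W hW f h2
  have h3 : Away.mk (𝒜.deg W hW) hf 0 1 (by rw [zero_smul]; exact SetLike.GradedOne.one_mem) ∈
      (fam p chart i.ker W hW).J d f hd hf := by rw [h1]; trivial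
  exact ⟨0, by rw [pow_zero, one_mul]; exact subset_num hf _ _ h3⟩

include hP in
theorem exists_away [CompactSpace S] [QuasiSeparatedSpace S]
    (hft : ∀ (W : S.Opens) (hW : IsAffineOpen W) (n : ℕ), ∃ s : Finset (𝒜.presheaf.obj (op W)),
      (↑s : Set (𝒜.presheaf.obj (op W))) ⊆ (𝒜.deg W hW n : AddSubgroup (𝒜.presheaf.obj (op W))) ∧
        ∀ x ∈ 𝒜.deg W hW n, ∃ c : (𝒜.presheaf.obj (op W)) → Γ(S, W),
          x = ∑ g ∈ s, (𝒜.str.app (op W)).hom (c g) * g) [QuasiCompact p] {Z : Scheme.{u}} (i : Z ⟶ P)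
    [IsClosedImmersion i] [LocallyOfFinitePresentation i]
    (U : S.Opens) (hUc : IsCompact (U : Set S)) (hUZ : Disjoint (U : Set S) (Set.range (i ≫ p).base)) :
    ∃ (d : ℕ) (_ : 0 < d) (F : S.Modules) (_ : Coh.IsQCoh F) (_ : CohB1.IsFT F) (ι : F ⟶ 𝒜.toModule)
      (_ : ∀ (W : S.Opens) (hW : IsAffineOpen W) (x : Γ(F, W)), jv ι x ∈ 𝒜.deg W hW d)
      (ℬ : RelProj.QCGrAlg S) (φ : 𝒜.toQCAlg ⟶ ℬ.toQCAlg) (hφ : RelProj.IsGradedHom φ) (PB : Scheme.{u})
      (pB : PB ⟶ S) (chartB : ∀ (U : S.Opens) (hU : IsAffineOpen U), (((pB ⁻¹ᵁ U : PB.Opens) : Scheme.{u}) ≅ Proj (ℬ.deg U hU)))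
      (h : PB ⟶ P) (e : PB ≅ Z),
      (∀ (U : S.Opens), IsAffineOpen U → Function.Surjective (φ.hom.app (op U)).hom ∧
          RingHom.ker (φ.hom.app (op U)).hom = (Ideal.span (Set.range (jv ι (U := U))) : Ideal (𝒜.presheaf.obj (op U)))) ∧
        RelProj.IsRelProj ℬ pB chartB ∧ RelProj.IsProjQMap (RelProj.QGrHom.ofHom φ hφ) p chart pB chartB h ∧
        e.hom ≫ i = h ∧ ∀ (W : S.Opens) (hW : IsAffineOpen W), W ≤ U → ∀ a ∈ 𝒜.deg W hW d, ∃ x : Γ(F, W), jv ι x = a := by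
  classical
  obtain ⟨d, hd, H⟩ := exists_main hP i
  -- finite affine cover of `U`
  obtain ⟨N, V, hV, hVU, hcov⟩ : ∃ (N : ℕ) (V : Fin N → S.Opens), (∀ l, IsAffineOpen (V l)) ∧ (∀ l, V l ≤ U) ∧
      ∀ s ∈ U, ∃ l, s ∈ V l := by
    have h : ∀ s : U, ∃ V : S.Opens, IsAffineOpen V ∧ (s : S) ∈ V ∧ V ≤ U := fun s => by
      obtain ⟨V, hV, hx, hVU⟩ := exists_isAffineOpen_mem_and_subset (x := (s : S)) (U := U) s.2
      exact ⟨V, hV, hx, hVU⟩
    choose V hV hs hVU using h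
    obtain ⟨t, ht⟩ := hUc.elim_finite_subcover (fun x : U => (V x : Set S))
      (fun x => (V x).2) (fun x hx => Set.mem_iUnion.2 ⟨⟨x, hx⟩, hs ⟨x, hx⟩⟩)
    let e := t.equivFin.symm
    refine ⟨t.card, fun i => V (e i).1, fun i => hV _, fun i => hVU _, fun s hs' => ?_⟩
    obtain ⟨y, hy, hxy⟩ := Set.mem_iUnion₂.1 (ht hs')
    refine ⟨e.symm ⟨y, hy⟩, ?_⟩
    change s ∈ V (e (e.symm ⟨y, hy⟩)).1
    rw [Equiv.apply_symm_apply]
    exact hxy
  choose T hTd hTg using fun l => hft (V l) (hV l) d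
  obtain ⟨F, hF, hFt, ι, hmono, hb, hι, ℬ, φ, hφ, PB, pB, chartB, h, e, h1, h2, h3, h4⟩ :=
    H (ULift.{u} (Σ l, T l)) inferInstance (fun s => V s.down.1) (fun s => hV _) (fun s => s.down.2.1)
      (fun s => ⟨hTd _ s.down.2.2, by rw [idSys_eq_top hP i hUZ (hV _) (hVU _)]; trivial⟩)
  refine ⟨d, hd, F, hF, hFt, ι, hι, ℬ, φ, hφ, PB, pB, chartB, h, e, h1, h2, h3, h4, ?_⟩
  intro W hW hWU a ha
  refine exists_of_locally ι (U := W) (show Γ(𝒜.toModule, W) from a) fun x hx => ?_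
  obtain ⟨l, hl⟩ := hcov x (hWU hx)
  obtain ⟨r, r', hrr, hxr⟩ := exists_basicOpen_le_affine_inter hW (hV l) x ⟨hx, hl⟩
  have hxr' : x ∈ S.basicOpen r' := hrr ▸ hxr
  have hle : S.basicOpen r' ≤ W := hrr ▸ S.basicOpen_le r
  -- surjectivity over `V l`
  have hsV : ∀ y ∈ 𝒜.deg (V l) (hV l) d, ∃ t : Γ(F, V l), jv ι t = y := by
    intro y hy
    obtain ⟨c, hc⟩ := hTg l y hy
    have hb' : ∀ g : T l, ∃ t : Γ(F, V l), jv ι t = g.1 := fun g => hb ⟨⟨l, g⟩⟩
    choose t ht using hb'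
    refine ⟨∑ g : T l, c g.1 • t g, ?_⟩
    have h5 : jv ι (∑ g : T l, c g.1 • t g) = ∑ g : T l, jv ι (c g.1 • t g) :=
      map_sum ((ι.app (V l)).hom) (fun g : T l => c g.1 • t g) Finset.univ
    rw [h5, hc, ← Finset.sum_coe_sort (T l) (fun g => (𝒜.str.app (op (V l))).hom (c g) * g)]
    exact Finset.sum_congr rfl fun g _ => by rw [jv_smul, ht]
  -- surjectivity over `D(r')`
  have hsr : ∀ y ∈ 𝒜.deg (S.basicOpen r') ((hV l).basicOpen r') d, ∃ t : Γ(F, S.basicOpen r'), jv ι t = y := by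
    intro y hy
    let _ := (𝒜.presheaf.map (homOfLE (S.basicOpen_le r')).op).hom.toAlgebra
    have hloc : IsLocalization.Away ((𝒜.str.app (op (V l))).hom r') (𝒜.presheaf.obj (op (S.basicOpen r'))) :=
      𝒜.isQC (V l) (hV l) r'
    obtain ⟨⟨z, s, hs⟩, hz⟩ := IsLocalization.surj (M := Submonoid.powers ((𝒜.str.app (op (V l))).hom r')) y
    obtain ⟨n, rfl⟩ := hs
    let ρ := 𝒜.res (hV l) ((hV l).basicOpen r') (S.basicOpen_le r')
    change y * ρ ((𝒜.str.app (op (V l))).hom r' ^ n) = ρ z at hz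
    have h6 : ρ ((𝒜.str.app (op (V l))).hom r' ^ n) =
        (𝒜.str.app (op (S.basicOpen r'))).hom ((ores (S.basicOpen_le r') r') ^ n) := by
      rw [map_pow, map_pow]
      congr 1
      exact (congrArg (fun f => f.hom r') (𝒜.str.naturality (homOfLE (S.basicOpen_le r')).op)).symm
    have hzd : ρ z = ρ (DirectSum.decompose (𝒜.deg (V l) (hV l)) z d : 𝒜.presheaf.obj (op (V l))) := by
      rw [GradedRingHom.map_directSumDecompose, ← hz]
      have h7 : y * ρ ((𝒜.str.app (op (V l))).hom r' ^ n) ∈ 𝒜.deg (S.basicOpen r') ((hV l).basicOpen r') d := by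
        have h8 : ρ ((𝒜.str.app (op (V l))).hom r' ^ n) ∈ 𝒜.deg (S.basicOpen r') ((hV l).basicOpen r') 0 :=
          ρ.map_mem (SetLike.pow_mem_graded _ (𝒜.str_mem (V l) (hV l) r'))
        simpa using SetLike.mul_mem_graded (A := 𝒜.deg (S.basicOpen r') ((hV l).basicOpen r')) hy h8
      exact (DirectSum.decompose_of_mem_same _ h7).symm
    obtain ⟨t, ht⟩ := hsV _ (SetLike.coe_mem (DirectSum.decompose (𝒜.deg (V l) (hV l)) z d))
    have hu : IsUnit ((ores (S.basicOpen_le r') r') ^ n) :=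
      (RingedSpace.isUnit_res_basicOpen _ r' : IsUnit (ores (S.basicOpen_le r') r')).pow n
    obtain ⟨v, hv⟩ := hu
    refine ⟨(↑v⁻¹ : Γ(S, S.basicOpen r')) • res F (S.basicOpen_le r') t, ?_⟩
    rw [jv_smul, jv_res, ht]
    change _ * ρ (DirectSum.decompose (𝒜.deg (V l) (hV l)) z d : 𝒜.presheaf.obj (op (V l))) = y
    rw [← hzd, ← hz, h6, ← hv, mul_comm y, ← mul_assoc, ← map_mul, Units.inv_mul, map_one, one_mul]
  have hra : (𝒜.presheaf.map (homOfLE hle).op).hom a ∈ 𝒜.deg (S.basicOpen r') ((hV l).basicOpen r') d :=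
    𝒜.map_mem hW ((hV l).basicOpen r') hle ha
  obtain ⟨t, ht⟩ := hsr _ hra
  exact ⟨S.basicOpen r', hle, t, hxr', ht⟩

end K722.Main90
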