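import Mathlib.RingTheory.GradedAlgebra.Homogeneous.Ideal
import Mathlib.RingTheory.GradedAlgebra.RingHom
import Mathlib.RingTheory.Ideal.Quotient.Operations
import Mathlib.Tactic

/-!
# The grading of the quotient by a homogeneous ideal
-/

set_option autoImplicit false

namespace K722.QuotGr

variable {ι : Type*} [DecidableEq ι] [AddMonoid ι] {A : Type*} [CommRing A] (𝒜 : ι → AddSubgroup A) [GradedRing 𝒜]
  (I : Ideal A)

/-- The graded pieces of the quotient. -/
def gr (i : ι) : AddSubgroup (A ⧸ I) := (𝒜 i).map (Ideal.Quotient.mk I : A →+ A ⧸ I)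

omit [DecidableEq ι] [AddMonoid ι] [GradedRing 𝒜] in
theorem mem_gr {i : ι} {b : A ⧸ I} : b ∈ gr 𝒜 I i ↔ ∃ a ∈ 𝒜 i, Ideal.Quotient.mk I a = b := Iff.rfl

omit [DecidableEq ι] [AddMonoid ι] [GradedRing 𝒜] in
theorem mk_mem {i : ι} {a : A} (ha : a ∈ 𝒜 i) : Ideal.Quotient.mk I a ∈ gr 𝒜 I i := ⟨a, ha, rfl⟩

theorem exists_gradedRing (hI : I.IsHomogeneous 𝒜) : Nonempty (GradedRing (gr 𝒜 I)) := by
  classical
  let q : A →+ A ⧸ I := (Ideal.Quotient.mk I : A →+ A ⧸ I)
  have hq : Function.Surjective q := Ideal.Quotient.mk_surjective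
  let ℬ : ι → AddSubgroup (A ⧸ I) := fun i => (𝒜 i).map q
  have hgm : SetLike.GradedMonoid ℬ :=
    { one_mem := ⟨1, SetLike.GradedOne.one_mem, map_one (Ideal.Quotient.mk I)⟩
      mul_mem := by
        rintro i j _ _ ⟨x, hx, rfl⟩ ⟨y, hy, rfl⟩
        exact ⟨x * y, SetLike.GradedMul.mul_mem hx hy, map_mul (Ideal.Quotient.mk I) _ _⟩ }
  let f : ∀ i, 𝒜 i →+ ℬ i := fun i => q.addSubgroupMap (𝒜 i)
  have hf : ∀ i (a : 𝒜 i), ((f i a : ℬ i) : A ⧸ I) = q a := fun i a => rfl
  let D0 : A →+ DirectSum ι (fun i => ℬ i) :=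
    (DirectSum.map f).comp (DirectSum.decomposeAddEquiv 𝒜).toAddMonoidHom
  have hD0 : q.ker ≤ D0.ker := by
    intro a ha
    have ha' : a ∈ I := Ideal.Quotient.eq_zero_iff_mem.1 ha
    rw [AddMonoidHom.mem_ker]
    ext i : 1
    have h1 : D0 a i = f i (DirectSum.decompose 𝒜 a i) := rfl
    rw [h1]
    apply Subtype.ext
    rw [hf]
    exact Ideal.Quotient.eq_zero_iff_mem.2 (hI i ha')
  let D : A ⧸ I →+ DirectSum ι (fun i => ℬ i) := q.liftOfSurjective hq ⟨D0, hD0⟩
  have hD : ∀ a, D (q a) = D0 a := fun a =>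
    AddMonoidHom.liftOfRightInverse_comp_apply q _ _ ⟨D0, hD0⟩ a
  have hcoe : (DirectSum.coeAddMonoidHom ℬ).comp (DirectSum.map f) =
      q.comp (DirectSum.coeAddMonoidHom 𝒜) := by
    apply DirectSum.addHom_ext
    intro i a
    simp only [AddMonoidHom.comp_apply, DirectSum.map_of, DirectSum.coeAddMonoidHom_of]
    exact hf i a
  let dec : DirectSum.Decomposition ℬ := DirectSum.Decomposition.ofAddHom ℬ D
    (by
      ext z
      obtain ⟨a, rfl⟩ := hq z
      rw [AddMonoidHom.comp_apply, hD]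
      have h1 := DFunLike.congr_fun hcoe (DirectSum.decompose 𝒜 a)
      simp only [AddMonoidHom.comp_apply] at h1
      have h2 : DirectSum.coeAddMonoidHom 𝒜 (DirectSum.decompose 𝒜 a) = a :=
        (DirectSum.decompose 𝒜).symm_apply_apply a
      rw [h2] at h1
      exact h1)
    (by
      apply DirectSum.addHom_ext
      intro i b
      obtain ⟨a, rfl⟩ := q.addSubgroupMap_surjective (𝒜 i) b
      rw [AddMonoidHom.comp_apply, DirectSum.coeAddMonoidHom_of]
      change D (q a) = DirectSum.of (fun i => ℬ i) i (f i a)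
      rw [hD]
      change DirectSum.map f (DirectSum.decompose 𝒜 a) = _
      rw [DirectSum.decompose_coe, DirectSum.map_of])
  exact ⟨{ hgm, dec with }⟩

/-- The graded ring structure of the quotient by a homogeneous ideal. -/
@[reducible] noncomputable def gradedRing (hI : I.IsHomogeneous 𝒜) : GradedRing (gr 𝒜 I) :=
  (exists_gradedRing 𝒜 I hI).some

end K722.QuotGr
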