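import Groth.Agent.RelProj.K823.GrData
import Groth.Agent.EGA2.K35.GammaIso
import Groth.Agent.Divisors.K722.QuotGr

/-!
# The quotient of a quasi-coherent graded algebra by a graded ideal

* `IdSys 𝒜`: homogeneous ideals over the affine opens, compatible with restriction to basic opens;
* `exists_quot`: the quotient algebra `ℬ` with the surjection `φ : 𝒜 ⟶ ℬ` of kernel the given ideals.
-/

set_option autoImplicit false
universe u

open CategoryTheory CategoryTheory.Limits AlgebraicGeometry TopologicalSpace Opposite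

noncomputable section

namespace K722.QuotAlg

open K823.AffData K823.GrData K722.QuotGr

variable {S : Scheme.{u}} (𝒜 : RelProj.QCGrAlg S)

/-- A quasi-coherent graded ideal, on affine opens. -/
structure IdSys where
  H : ∀ (U : S.Opens) (_ : IsAffineOpen U), Ideal (𝒜.presheaf.obj (op U))
  hom : ∀ (U : S.Opens) (hU : IsAffineOpen U), (H U hU).IsHomogeneous (𝒜.deg U hU)
  map_res : ∀ (U : S.Opens) (hU : IsAffineOpen U) (r : Γ(S, U)),
    (H U hU).map (𝒜.presheaf.map (homOfLE (S.basicOpen_le r)).op).hom = H (S.basicOpen r) (hU.basicOpen r)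

variable {𝒜} (K : IdSys 𝒜)

namespace IdSys

theorem le_comap {U V : S.AffineZariskiSite} (i : V ≤ U) :
    K.H U.1 U.2 ≤ (K.H V.1 V.2).comap
      (𝒜.presheaf.map (homOfLE (Scheme.AffineZariskiSite.toOpens_mono i)).op).hom := by
  obtain ⟨U, hU⟩ := U
  obtain ⟨V, hV⟩ := V
  obtain ⟨r, hr⟩ := i
  change S.basicOpen r = V at hr
  subst hr
  rw [← Ideal.map_le_iff_le_comap]
  exact (K.map_res U hU r).le

/-- The quotient over an affine open. -/
abbrev Q (U : S.Opens) (hU : IsAffineOpen U) : CommRingCat.{u} :=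
  CommRingCat.of ((𝒜.presheaf.obj (op U)) ⧸ K.H U hU)

/-- The restriction of the quotients. -/
def rq {U V : S.AffineZariskiSite} (i : V ≤ U) : ((𝒜.presheaf.obj (op U.1)) ⧸ K.H U.1 U.2) →+*
    ((𝒜.presheaf.obj (op V.1)) ⧸ K.H V.1 V.2) :=
  Ideal.quotientMap _ (𝒜.presheaf.map (homOfLE (Scheme.AffineZariskiSite.toOpens_mono i)).op).hom (K.le_comap i)

theorem rq_mk {U V : S.AffineZariskiSite} (i : V ≤ U) (a : 𝒜.presheaf.obj (op U.1)) :
    K.rq i (Ideal.Quotient.mk _ a) = Ideal.Quotient.mk _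
      ((𝒜.presheaf.map (homOfLE (Scheme.AffineZariskiSite.toOpens_mono i)).op).hom a) := rfl

/-- The functor of quotients. -/
def functor : (S.AffineZariskiSite)ᵒᵖ ⥤ CommRingCat.{u} where
  obj U := CommRingCat.of ((𝒜.presheaf.obj (op U.unop.1)) ⧸ K.H U.unop.1 U.unop.2)
  map i := CommRingCat.ofHom (K.rq i.unop.le)
  map_id U := by
    refine CommRingCat.hom_ext (Ideal.Quotient.ringHom_ext (RingHom.ext fun a => ?_))
    change Ideal.Quotient.mk _ ((𝒜.presheaf.map (homOfLE (le_refl U.unop.1)).op).hom a) = Ideal.Quotient.mk _ a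
    have h1 : 𝒜.presheaf.map (homOfLE (le_refl U.unop.1)).op = 𝟙 _ := 𝒜.presheaf.map_id _
    rw [h1]
    rfl
  map_comp {U V W} i j := by
    refine CommRingCat.hom_ext (Ideal.Quotient.ringHom_ext (RingHom.ext fun a => ?_))
    change Ideal.Quotient.mk _ ((𝒜.presheaf.map (homOfLE (_ : W.unop.1 ≤ U.unop.1)).op).hom a) =
      Ideal.Quotient.mk _ ((𝒜.presheaf.map (homOfLE (_ : W.unop.1 ≤ V.unop.1)).op).hom
        ((𝒜.presheaf.map (homOfLE (_ : V.unop.1 ≤ U.unop.1)).op).hom a))
    congr 1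
    exact congrArg (fun f => f.hom a) (𝒜.presheaf.map_comp
      (homOfLE (Scheme.AffineZariskiSite.toOpens_mono i.unop.le)).op
      (homOfLE (Scheme.AffineZariskiSite.toOpens_mono j.unop.le)).op)

/-- The structure map. -/
def structure' : (Scheme.AffineZariskiSite.toOpensFunctor S).op ⋙ S.presheaf ⟶ K.functor where
  app U := (𝒜.str.app (op U.unop.1)) ≫ CommRingCat.ofHom (Ideal.Quotient.mk (K.H U.unop.1 U.unop.2))
  naturality U V i := by
    ext a
    change Ideal.Quotient.mk _ ((𝒜.str.app (op V.unop.1)).hom ((S.presheaf.map _).hom a)) =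
      Ideal.Quotient.mk _ ((𝒜.presheaf.map _).hom ((𝒜.str.app (op U.unop.1)).hom a))
    congr 1
    exact congrArg (fun f => f.hom a) (𝒜.str.naturality
      (homOfLE (Scheme.AffineZariskiSite.toOpens_mono i.unop.le)).op)

theorem isLocalization (U : S.AffineZariskiSite) (r : Γ(S, U.1)) :
    letI := (K.functor.map (homOfLE (U.basicOpen_le r)).op).hom.toAlgebra
    IsLocalization.Away (K.structure'.app (op U) r) (K.functor.obj (op (U.basicOpen r))) := by
  obtain ⟨U, hU⟩ := U
  let _ := (𝒜.presheaf.map (homOfLE (S.basicOpen_le r)).op).hom.toAlgebra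
  have h1 : IsLocalization.Away ((𝒜.str.app (op U)).hom r) (𝒜.presheaf.obj (op (S.basicOpen r))) := 𝒜.isQC U hU r
  let _ : Algebra ((𝒜.presheaf.obj (op U)) ⧸ K.H U hU)
      ((𝒜.presheaf.obj (op (S.basicOpen r))) ⧸ K.H (S.basicOpen r) (hU.basicOpen r)) :=
    (K.functor.map (homOfLE (Scheme.AffineZariskiSite.basicOpen_le ⟨U, hU⟩ r)).op).hom.toAlgebra
  have h2 : IsLocalization ((Submonoid.powers ((𝒜.str.app (op U)).hom r)).map (Ideal.Quotient.mk (K.H U hU)))
      ((𝒜.presheaf.obj (op (S.basicOpen r))) ⧸ K.H (S.basicOpen r) (hU.basicOpen r)) := by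
    refine IsLocalization.of_surjective (Submonoid.powers ((𝒜.str.app (op U)).hom r))
      (𝒜.presheaf.obj (op (S.basicOpen r))) (Ideal.Quotient.mk (K.H U hU)) Ideal.Quotient.mk_surjective
      (Ideal.Quotient.mk (K.H (S.basicOpen r) (hU.basicOpen r))) Ideal.Quotient.mk_surjective rfl ?_
    rw [Ideal.mk_ker, Ideal.mk_ker]
    exact (K.map_res U hU r).ge
  rw [Submonoid.map_powers] at h2
  exact h2

/-- The data of the quotient. -/
def data : Data S where
  F := K.functor
  α := K.structure'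
  coeq := Scheme.AffineZariskiSite.coequifibered_iff_forall_isLocalizationAway.mpr fun U c => K.isLocalization U c
  deg U hU := gr (𝒜.deg U hU) (K.H U hU)
  graded U hU := gradedRing (𝒜.deg U hU) (K.H U hU) (K.hom U hU)
  map_mem {U V} hU hV i d x hx := by
    obtain ⟨a, ha, rfl⟩ := hx
    exact ⟨_, 𝒜.map_mem hU hV (Scheme.AffineZariskiSite.toOpens_mono i) ha, rfl⟩
  str_mem U hU r := ⟨_, 𝒜.str_mem U hU r, rfl⟩

theorem data_mk_res {U V : S.Opens} (hU : IsAffineOpen U) (hV : IsAffineOpen V)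
    (i : mkA V hV ≤ mkA U hU) (a : 𝒜.presheaf.obj (op U)) :
    (K.data.res hU hV i).hom (Ideal.Quotient.mk _ a) = Ideal.Quotient.mk _
      ((𝒜.presheaf.map (homOfLE (Scheme.AffineZariskiSite.toOpens_mono i)).op).hom a) := rfl

/-- The quotient algebra. -/
theorem exists_quot : ∃ (ℬ : RelProj.QCGrAlg S) (φ : 𝒜.toQCAlg ⟶ ℬ.toQCAlg),
    RelProj.IsGradedHom φ ∧ (∀ (U : S.Opens) (hU : IsAffineOpen U), Function.Surjective (φ.hom.app (op U)).hom ∧
      RingHom.ker (φ.hom.app (op U)).hom = K.H U hU) := by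
  let ℬ := K.data.alg
  let g : ∀ (U : S.Opens) (hU : IsAffineOpen U), 𝒜.presheaf.obj (op U) ⟶ ℬ.presheaf.obj (op U) := fun U hU =>
    CommRingCat.ofHom ((show (𝒜.presheaf.obj (op U) ⧸ K.H U hU) →+* ℬ.presheaf.obj (op U) from
      (K.data.eqv U hU).symm.toRingHom).comp (Ideal.Quotient.mk (K.H U hU)))
  have hg : ∀ (U : S.Opens) (hU : IsAffineOpen U) (a : 𝒜.presheaf.obj (op U)),
      K.data.eqv U hU ((g U hU).hom a) = Ideal.Quotient.mk (K.H U hU) a := fun U hU a =>
    (K.data.eqv U hU).apply_symm_apply _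
  let φ : 𝒜.toQCAlg ⟶ ℬ.toQCAlg := K35.GammaIso.homOfAffine g
    (by
      intro U hU r
      ext a
      apply (K.data.eqv (S.basicOpen r) (hU.basicOpen r)).injective
      refine (hg _ _ _).trans ?_
      refine Eq.trans ?_ (K.data.eqv_res hU (hU.basicOpen r) ⟨r, rfl⟩ (S.basicOpen_le r) ((g U hU).hom a)).symm
      rw [hg]
      rfl)
    (by
      intro U hU
      ext a
      apply (K.data.eqv U hU).injective
      refine (hg _ _ _).trans ?_
      exact (K.data.eqv_str U hU a).symm)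
  have hφ : ∀ (U : S.Opens) (hU : IsAffineOpen U), φ.hom.app (op U) = g U hU := fun U hU =>
    K35.GammaIso.homOfAffine_app g _ _ U hU
  refine ⟨ℬ, φ, ?_, fun U hU => ⟨?_, ?_⟩⟩
  · intro U hU d x hx
    rw [hφ U hU]
    change K.data.eqv U hU ((g U hU).hom x) ∈ gr (𝒜.deg U hU) (K.H U hU) d
    rw [hg]
    exact mk_mem _ _ hx
  · rw [hφ U hU]
    intro b
    obtain ⟨a, ha⟩ := Ideal.Quotient.mk_surjective (K.data.eqv U hU b)
    exact ⟨a, (K.data.eqv U hU).injective ((hg U hU a).trans ha)⟩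
  · ext a
    rw [hφ U hU, RingHom.mem_ker, ← Ideal.Quotient.eq_zero_iff_mem, ← hg U hU]
    exact (map_eq_zero_iff _ (K.data.eqv U hU).injective).symm

end IdSys

end K722.QuotAlg
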