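import Groth.Agent.EGA2.K31.GrFracs
import Groth.Agent.EGA2.K43.GrFrac
import Groth.Agent.EGA2.K35.Regrade
import Groth.Agent.FormalB.ProjFrac
import Groth.Agent.Divisors.K722.DehFP

/-!
# Sections of `O(n)` over `D₊(f)`

`exists_frac`: a section of `GrTwist.twist 𝒜 n` over `D₊(f)` is `a / f^k`;
`secMap`, `secMap_bijective`: the bijection of the degree-`n` part of `A_f` with `Γ(D₊(f), O(n))`;
`fp_sections`: for `A` finitely presented over `R → A_0`, it is a finitely presented module.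
-/

set_option autoImplicit false
universe u

open CategoryTheory CategoryTheory.Limits AlgebraicGeometry TopologicalSpace Opposite HomogeneousLocalization
open scoped HomogeneousIdeal

noncomputable section

namespace K722.TwistSec

open K722.DehRet K722.DehFP

variable {A σ : Type u} [CommRing A] [SetLike σ A] [AddSubgroupClass σ A] {𝒜 : ℕ → σ} [GradedRing 𝒜]

theorem algebraMap_mul_mk (x : ProjectiveSpectrum 𝒜) (a s : A) (hs : s ∈ x.asHomogeneousIdeal.toIdeal.primeCompl) :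
    algebraMap A (GrTwist.Loc 𝒜 x) s * Localization.mk a ⟨s, hs⟩ = algebraMap A (GrTwist.Loc 𝒜 x) a := by
  rw [mul_comm, Localization.mk_eq_mk']
  exact IsLocalization.mk'_spec (GrTwist.Loc 𝒜 x) a ⟨s, hs⟩

theorem exists_frac {f : A} {d : ℕ} (hd : 0 < d) (hf : f ∈ 𝒜 d) (n : ℤ)
    (t : Γ(GrTwist.twist 𝒜 n, Proj.basicOpen 𝒜 f)) :
    ∃ (k i : ℕ) (a : A) (_ : a ∈ 𝒜 i), (i : ℤ) = k * d + n ∧ ∀ x : Proj.basicOpen 𝒜 f,
      algebraMap A (GrTwist.Loc 𝒜 x.1) (f ^ k) * GrTwist.val t x = algebraMap A (GrTwist.Loc 𝒜 x.1) a := by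
  let _ : Algebra (𝒜 0) A := (SetLike.GradeZero.subring 𝒜).subtype.toAlgebra
  have h0 : ∀ r : 𝒜 0, algebraMap (𝒜 0) A r ∈ 𝒜 0 := fun r => r.2
  let 𝒮 := K35.Regrade.subm 𝒜 h0
  let ψ := K35.Regrade.toSub 𝒜 h0
  let hψ := K35.Regrade.irr_toSub 𝒜 h0
  let χ := K35.Regrade.ofSub 𝒜 h0
  let hχ := K35.Regrade.irr_ofSub 𝒜 h0
  let pt : ProjectiveSpectrum 𝒮 → ProjectiveSpectrum 𝒜 := ProjectiveSpectrum.comap ψ hψ
  let L : ProjectiveSpectrum 𝒮 → Type u := fun x => Localization.AtPrime x.asHomogeneousIdeal.toIdeal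
  obtain ⟨k, i, a, hi, ha, h⟩ := Groth.Agent.FormalB.ProjFrac.exists_frac 𝒮 𝒮 L
    (fun x => Algebra.linearMap A (Localization.AtPrime x.asHomogeneousIdeal.toIdeal)) (f := f) (m := d) hf hd n
    (fun x hx => (GrTwist.val t ⟨pt x, hx⟩ : GrTwist.Loc 𝒜 (pt x))) (by
      intro x hx
      obtain ⟨V, hxV, e, i, j, ⟨a, ha⟩, ⟨s, hs⟩, nin, hij, w⟩ :=
        (show GrTwist.sectN (𝒜 := 𝒜) n (op (Proj.basicOpen 𝒜 f)) from t).2 ⟨pt x, hx⟩
      refine ⟨V.comap (ProjectiveSpectrum.comap ψ hψ), hxV, fun y hy => e.le hy, i, j, a, s, ha, hs, hij,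
        fun y hy => ⟨nin ⟨pt y, hy⟩, ?_⟩⟩
      have h1 : GrTwist.val t ⟨pt y, e.le hy⟩ = Localization.mk a ⟨s, nin ⟨pt y, hy⟩⟩ := w ⟨pt y, hy⟩
      refine (Algebra.smul_def (R := A) (A := GrTwist.Loc 𝒜 (pt y)) s (GrTwist.val t ⟨pt y, e.le hy⟩)).trans ?_
      rw [h1]
      exact algebraMap_mul_mk _ _ _ _)
  refine ⟨k, i, a, ha, hi, fun x => ?_⟩
  refine (Algebra.smul_def (R := A) (A := GrTwist.Loc 𝒜 x.1) (f ^ k) (GrTwist.val t x)).symm.trans ?_
  exact h (ProjectiveSpectrum.comap χ hχ x.1) x.2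

/-- The map `A_f → A_x` for `x ∈ D₊(f)`. -/
def toLoc (f : A) (x : Proj.basicOpen 𝒜 f) : Localization.Away f →+* GrTwist.Loc 𝒜 x.1 :=
  IsLocalization.map (M := Submonoid.powers f) (T := x.1.asHomogeneousIdeal.toIdeal.primeCompl) _
    (RingHom.id _) (Submonoid.powers_le.mpr x.2)

theorem toLoc_algebraMap (f : A) (x : Proj.basicOpen 𝒜 f) (a : A) :
    toLoc f x (algebraMap A (Localization.Away f) a) = algebraMap A (GrTwist.Loc 𝒜 x.1) a :=
  IsLocalization.map_eq _ _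

theorem isUnit_alg (f : A) (x : Proj.basicOpen 𝒜 f) (k : ℕ) : IsUnit (algebraMap A (GrTwist.Loc 𝒜 x.1) (f ^ k)) := by
  rw [← toLoc_algebraMap f x]
  exact (isUnit_pow f k).map _

theorem toLoc_eq {f : A} (x : Proj.basicOpen 𝒜 f) {w : Localization.Away f} {k : ℕ} {a : A}
    (h : algebraMap A (Localization.Away f) (f ^ k) * w = algebraMap A (Localization.Away f) a)
    (hx : f ^ k ∈ x.1.asHomogeneousIdeal.toIdeal.primeCompl) :
    toLoc f x w = Localization.mk a ⟨f ^ k, hx⟩ := by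
  apply (isUnit_alg f x k).mul_left_cancel
  rw [algebraMap_mul_mk, ← toLoc_algebraMap f x, ← toLoc_algebraMap f x, ← map_mul, h]

theorem pow_notMem {f : A} (x : Proj.basicOpen 𝒜 f) (k : ℕ) :
    f ^ k ∈ x.1.asHomogeneousIdeal.toIdeal.primeCompl := fun h => x.2 (x.1.isPrime.mem_of_pow_mem k h)

section map

variable {f : A} {d : ℕ} (hd : 0 < d) (hf : f ∈ 𝒜 d) (n : ℤ)

include hf in
theorem toLoc_mem (x : Proj.basicOpen 𝒜 f) {w : Localization.Away f} (hw : IsDeg 𝒜 f d n w) :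
    toLoc f x w ∈ GrTwist.twistAt 𝒜 n x.1 := by
  obtain ⟨k, i, a, ha, hi, h⟩ := hw
  refine Submodule.subset_span ⟨i, k * d, ⟨a, ha⟩, ⟨f ^ k, pow_mem' hf k⟩, pow_notMem x k, ?_, toLoc_eq x h _⟩
  rw [hi]; push_cast; ring

/-- The section of `O(n)` over `D₊(f)` given by a fraction of degree `n`. -/
def secFun (w : degLoc hd hf n) : GrTwist.sectN (𝒜 := 𝒜) n (op (Proj.basicOpen 𝒜 f)) :=
  ⟨fun x => ⟨toLoc f x w.1, toLoc_mem hf n x w.2⟩, fun x => by
    obtain ⟨k, i, a, ha, hi, h⟩ := w.2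
    refine ⟨Proj.basicOpen 𝒜 f, x.2, 𝟙 _, i, k * d, ⟨a, ha⟩, ⟨f ^ k, pow_mem' hf k⟩, fun y => pow_notMem y k,
      Or.inl (by rw [hi]; push_cast; ring), fun y => ?_⟩
    exact toLoc_eq y h _⟩

/-- The additive map `A(n)_(f) → Γ(D₊(f), O(n))`. -/
def secMap : degLoc hd hf n →+ Γ(GrTwist.twist 𝒜 n, Proj.basicOpen 𝒜 f) where
  toFun w := (secFun hd hf n w : GrTwist.sectN (𝒜 := 𝒜) n (op (Proj.basicOpen 𝒜 f)))
  map_zero' := K43.GrFrac.sec_ext fun x => by
    change toLoc f x 0 = 0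
    rw [map_zero]
  map_add' v w := K43.GrFrac.sec_ext fun x => by
    rw [K43.GrFrac.val_add]
    exact map_add (toLoc f x) v.1 w.1

theorem val_secMap (w : degLoc hd hf n) (x : Proj.basicOpen 𝒜 f) :
    GrTwist.val (secMap hd hf n w) x = toLoc f x w.1 := rfl

theorem secMap_smul (z : Away 𝒜 f) (w : degLoc hd hf n) :
    secMap hd hf n (z • w) = (Proj.awayToSection 𝒜 f).hom z • secMap hd hf n w := by
  refine K43.GrFrac.sec_ext fun x => ?_
  rw [K43.GrFrac.val_smul, val_secMap, val_secMap]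
  have h1 : ((show GrTwist.O (𝒜 := 𝒜) (op (Proj.basicOpen 𝒜 f)) from (Proj.awayToSection 𝒜 f).hom z).1 x).val =
      toLoc f x z.val := ProjectiveSpectrum.Proj.awayToSection_apply (𝒜 := 𝒜) f _ x
  rw [h1, ← map_mul]
  congr 1

theorem secMap_bijective : Function.Bijective (secMap hd hf n) := by
  constructor
  · rw [injective_iff_map_eq_zero]
    intro w hw
    obtain ⟨w, k, i, a, ha, hi, h⟩ := w
    apply Subtype.ext
    change w = 0
    obtain ⟨N, hN⟩ := K31.GrSect.exists_pow_smul_eq_zero 𝒜 (ℳ := 𝒜) hd hf (k := i) (m := a) ha (fun x hx => by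
      have h1 := congrArg (fun t => GrTwist.val t (⟨x, hx⟩ : Proj.basicOpen 𝒜 f)) hw
      have h2 : toLoc f (⟨x, hx⟩ : Proj.basicOpen 𝒜 f) w = 0 := h1
      have h3 := congrArg (toLoc f (⟨x, hx⟩ : Proj.basicOpen 𝒜 f)) h
      rw [map_mul, h2, mul_zero, toLoc_algebraMap] at h3
      obtain ⟨u, hu⟩ := (IsLocalization.map_eq_zero_iff x.asHomogeneousIdeal.toIdeal.primeCompl
        (GrTwist.Loc 𝒜 x) a).1 h3.symm
      exact ⟨u.1, u.2, hu⟩)
    apply (isUnit_pow f (N + k)).mul_left_cancel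
    rw [mul_zero, pow_add, map_mul, mul_assoc, h, ← map_mul, ← smul_eq_mul, hN, map_zero]
  · intro t
    obtain ⟨k, i, a, ha, hi, h⟩ := exists_frac hd hf n t
    have hs : algebraMap A (Localization.Away f) (f ^ k) *
        IsLocalization.mk' (Localization.Away f) a (⟨f ^ k, ⟨k, rfl⟩⟩ : Submonoid.powers f) =
        algebraMap A (Localization.Away f) a := by
      rw [mul_comm]
      exact IsLocalization.mk'_spec (Localization.Away f) a (⟨f ^ k, ⟨k, rfl⟩⟩ : Submonoid.powers f)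
    refine ⟨⟨IsLocalization.mk' (Localization.Away f) a (⟨f ^ k, ⟨k, rfl⟩⟩ : Submonoid.powers f),
      k, i, a, ha, hi, hs⟩, ?_⟩
    refine K43.GrFrac.sec_ext fun x => ?_
    rw [val_secMap]
    apply (isUnit_alg f x k).mul_left_cancel
    rw [h, ← toLoc_algebraMap f x, ← map_mul, hs, toLoc_algebraMap]

end map

section fp

variable {R : Type u} [CommRing R] (s : R →+* 𝒜 0) (hs : ((algebraMap (𝒜 0) A).comp s).FinitePresentation)

include s hs

/-- The sections of `O(n)` over `D₊(f)` form a finitely presented module. -/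
theorem fp_sections {f : A} {d : ℕ} (hd : 0 < d) (hf : f ∈ 𝒜 d) (n : ℤ) :
    Module.FinitePresentation Γ(Proj 𝒜, Proj.basicOpen 𝒜 f) Γ(GrTwist.twist 𝒜 n, Proj.basicOpen 𝒜 f) := by
  have := (fp_all s hs f hd hf n).2
  have hbij : Function.Bijective (Proj.awayToSection 𝒜 f).hom := by
    rw [← Proj.basicOpenIsoAway_hom 𝒜 f hf hd]
    exact ConcreteCategory.bijective_of_isIso _
  exact fp_of_equiv (D := Away 𝒜 f) (M := degLoc hd hf n) (Proj.awayToSection 𝒜 f).hom hbij (secMap hd hf n)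
    (secMap_bijective hd hf n) (secMap_smul hd hf n)

/-- `Proj A → Spec R` is locally of finite presentation. -/
theorem lofp : LocallyOfFinitePresentation (Proj.toSpecZero 𝒜 ≫ Spec.map (CommRingCat.ofHom s)) := by
  rw [IsZariskiLocalAtSource.iff_of_iSup_eq_top (P := @LocallyOfFinitePresentation) _
    (K31.GrFracs.iSup_basicOpen_pos (𝒜 := 𝒜))]
  rintro ⟨d, f, hf, hd⟩
  rw [← MorphismProperty.cancel_left_of_respectsIso (P := @LocallyOfFinitePresentation)
    (Proj.basicOpenIsoSpec 𝒜 f hf hd).inv, ← Category.assoc,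
    ← Proj.awayι, Proj.awayι_toSpecZero_assoc, ← Spec.map_comp,
    HasRingHomProperty.Spec_iff (P := @LocallyOfFinitePresentation)]
  exact (fp_all s hs f hd hf 0).1

end fp

end K722.TwistSec
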